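import Cfsg.Agent.Lib.OddOrder.OmegaCentral
import Cfsg.Agent.Lib.Isolated.RankOne

/-!
# Groups of odd prime power order with stabilisers of constant order
-/

set_option autoImplicit false
set_option linter.style.haveILetI false
set_option linter.unusedSectionVars false

namespace Cfsg.Agent.HalfTransP

open MulAction
open scoped Classical

universe u v

variable {P : Type u} [Group P] [Finite P] {p : ℕ} [hp : Fact p.Prime]

theorem exists_pair (hP : IsPGroup p P) (hp2 : p ≠ 2) (hnc : ¬ IsCyclic P) :
    ∃ t a : P, t ∈ Subgroup.center P ∧ orderOf t = p ∧ a ^ p = 1 ∧ a ∉ Subgroup.zpowers t ∧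
      ∀ g : P, ∃ c : ℕ, g * a * g⁻¹ = a * t ^ c := by
  haveI : Nontrivial P := by
    by_contra h
    rw [not_nontrivial_iff_subsingleton] at h
    exact hnc isCyclic_of_subsingleton
  haveI := hP.center_nontrivial
  obtain ⟨m, hm0, hm⟩ := (IsPGroup.nontrivial_iff_card (hP.to_subgroup (Subgroup.center P))).1 inferInstance
  obtain ⟨⟨t, htc⟩, ht⟩ := exists_prime_orderOf_dvd_card' (G := ↥(Subgroup.center P)) p (hm ▸ dvd_pow_self p hm0.ne')
  rw [Subgroup.orderOf_mk] at ht
  haveI hTn : (Subgroup.zpowers t).Normal := ⟨fun x hx g => by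
    rw [Subgroup.mem_center_iff.mp ((Subgroup.zpowers_le.2 htc) hx) g, mul_inv_cancel_right]; exact hx⟩
  have hTe : Cfsg.IsElementaryAbelian p (Subgroup.zpowers t) := ⟨inferInstance, fun x hx => by
    obtain ⟨i, rfl⟩ := Subgroup.mem_zpowers_iff.1 hx
    rw [← zpow_natCast, zpow_comm, zpow_natCast, ← ht, pow_orderOf_eq_one, one_zpow]⟩
  obtain ⟨A, hTA, hA⟩ := Finite.exists_le_maximal (a := Subgroup.zpowers t)
    (p := fun A : Subgroup P => A.Normal ∧ Cfsg.IsElementaryAbelian p A) ⟨hTn, hTe⟩
  obtain ⟨⟨hAn, hAe⟩, hAmax⟩ := hA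
  haveI := hAn
  have hAT : A ≠ Subgroup.zpowers t := fun hAT => hnc (by
    refine IsolatedP.isCyclic_of_odd_unique hP hp2 t (ht ▸ pow_orderOf_eq_one t) fun y hy => ?_
    rw [← hAT]
    refine OddOrder.OmegaCen.mem_of_centralizes hp2 hP A hAe
      (fun B hBn hBe hAB => le_antisymm (hAmax ⟨hBn, hBe⟩ hAB) hAB) ?_ hy
    refine Subgroup.mem_centralizer_iff.2 fun w hw => ?_
    exact (Subgroup.mem_center_iff.mp ((Subgroup.zpowers_le.2 htc) (hAT ▸ hw)) y).symm)
  obtain ⟨b, hbA, hbT⟩ := SetLike.exists_of_lt (lt_of_le_of_ne hTA (Ne.symm hAT))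
  -- an element of the image of `A` which is central in the quotient
  set N := Subgroup.zpowers t
  have hne : (A.map (QuotientGroup.mk' N)) ≠ ⊥ := fun h => hbT ((QuotientGroup.eq_one_iff b).1
    (Subgroup.mem_bot.1 (h ▸ ⟨b, hbA, rfl⟩ : (b : P ⧸ N) ∈ (⊥ : Subgroup (P ⧸ N)))))
  haveI : (A.map (QuotientGroup.mk' N)).Normal := hAn.map _ (QuotientGroup.mk'_surjective N)
  have hQ : IsPGroup p (P ⧸ N) := hP.to_quotient N
  let M := A.map (QuotientGroup.mk' N)
  have hMn : M.Normal := inferInstanceAs (A.map (QuotientGroup.mk' N)).Normal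
  letI : MulAction (P ⧸ N) M :=
    { smul := fun g x => ⟨g * x * g⁻¹, hMn.conj_mem (x : P ⧸ N) x.2 g⟩
      one_smul := fun x => Subtype.ext (by show 1 * (x : P ⧸ N) * 1⁻¹ = x; group)
      mul_smul := fun g k x => Subtype.ext (by
        show g * k * (x : P ⧸ N) * (g * k)⁻¹ = g * (k * x * k⁻¹) * g⁻¹; group) }
  obtain ⟨k, hk0, hk⟩ := (IsPGroup.nontrivial_iff_card (hQ.to_subgroup M)).1
    ((Subgroup.nontrivial_iff_ne_bot M).2 hne)
  obtain ⟨y, hy, hy1⟩ := hQ.exists_fixed_point_of_prime_dvd_card_of_fixed_point M
    (hk ▸ dvd_pow_self p hk0.ne') (a := (1 : M)) (fun g => Subtype.ext (by show g * 1 * g⁻¹ = 1; group))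
  obtain ⟨a, haA, hay⟩ := y.2
  refine ⟨t, a, htc, ht, hAe.2 a haA, fun h => hy1 (Subtype.ext ?_), fun g => ?_⟩
  · rw [← hay]
    exact ((QuotientGroup.eq_one_iff a).2 h).symm
  · have hfix : (g : P ⧸ N) * a * (g : P ⧸ N)⁻¹ = (a : P ⧸ N) := by
      have h' := congrArg Subtype.val (hy (g : P ⧸ N))
      change (g : P ⧸ N) * (y : P ⧸ N) * (g : P ⧸ N)⁻¹ = (y : P ⧸ N) at h'
      rw [← hay] at h'
      exact h' 
    have hmem : a⁻¹ * (g * a * g⁻¹) ∈ N := QuotientGroup.eq.1 (by
      rw [← hfix]; simp)
    obtain ⟨c, hc⟩ := (mem_powers_iff_mem_zpowers).2 hmem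
    exact ⟨c, by rw [show t ^ c = a⁻¹ * (g * a * g⁻¹) from hc, mul_inv_cancel_left]⟩

variable {E : Type v} [AddCommGroup E] [Finite E] [DistribMulAction P E]

/-- The sum of the translates under the powers of `g`. -/
def avg (p : ℕ) (g : P) (x : E) : E := ∑ j ∈ Finset.range p, g ^ j • x

theorem avg_fixed {g : P} (hg : g ^ p = 1) (x : E) : g • avg p g x = avg p g x := by
  simp only [avg, Finset.smul_sum, ← mul_smul, ← pow_succ']
  have h := Finset.sum_range_succ' (fun j => g ^ j • x) p
  rw [Finset.sum_range_succ, hg, pow_zero] at h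
  exact (add_right_cancel h).symm

theorem avg_of_fixed {g : P} {x : E} (hx : g • x = x) : avg p g x = p • x := by
  simp only [avg]
  rw [Finset.sum_congr rfl fun j _ => show g ^ j • x = x from
    mem_stabilizer_iff.mp (pow_mem (show g ∈ stabilizer P x from hx) j), Finset.sum_const, Finset.card_range]

theorem avg_comm {g k : P} (h : Commute k g) (x : E) : k • avg p g x = avg p g (k • x) := by
  simp only [avg, Finset.smul_sum, ← mul_smul, (h.pow_right _).eq]

theorem avg_conj (g k : P) (x : E) : k • avg p g x = avg p (k * g * k⁻¹) (k • x) := by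
  simp only [avg, Finset.smul_sum, ← mul_smul, conj_pow]
  exact Finset.sum_congr rfl fun j _ => by group

theorem avg_add (g : P) (x y : E) : avg p g (x + y) = avg p g x + avg p g y := by
  simp only [avg, smul_add, Finset.sum_add_distrib]

theorem act_nsmul (g : P) (n : ℕ) (x : E) : g • (n • x) = n • (g • x) :=
  map_nsmul (DistribSMul.toAddMonoidHom E g) n x

theorem avg_sub (g : P) (x y : E) : avg p g (x - y) = avg p g x - avg p g y := by
  simp only [avg, smul_sub, Finset.sum_sub_distrib]

theorem avg_nsmul (g : P) (n : ℕ) (x : E) : avg p g (n • x) = n • avg p g x := by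
  simp only [avg, act_nsmul, Finset.smul_sum]

theorem main [FaithfulSMul P E] (hP : IsPGroup p P) (hp2 : p ≠ 2) {q : ℕ} (hq : q.Prime)
    (hE : ∀ e : E, q • e = 0)
    (hconst : ∀ a b : E, a ≠ 0 → b ≠ 0 → Nat.card (stabilizer P a) = Nat.card (stabilizer P b)) :
    IsCyclic P ∧ ∀ g : P, g ≠ 1 → ∀ a : E, g • a = a → a = 0 := by
  haveI : Fintype E := Fintype.ofFinite E
  -- trivial cases
  have htriv : (∀ (g : P) (e : E), g • e = e) → IsCyclic P ∧ ∀ g : P, g ≠ 1 → ∀ a : E, g • a = a → a = 0 := by
    intro h
    have h1 : ∀ g : P, g = 1 := fun g => eq_of_smul_eq_smul fun e => (h g e).trans (one_smul P e).symm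
    haveI : Subsingleton P := ⟨fun g k => (h1 g).trans (h1 k).symm⟩
    exact ⟨isCyclic_of_subsingleton, fun g hg => absurd (h1 g) hg⟩
  have hall : ∀ S : Subgroup P, (∀ e : E, e ≠ 0 → S ≤ stabilizer P e) → S = ⊥ := fun S h =>
    (Subgroup.eq_bot_iff_forall S).2 fun g hg => eq_of_smul_eq_smul (α := E) fun e => by
      rw [one_smul]
      rcases eq_or_ne e 0 with rfl | he
      · exact smul_zero g
      · exact h e he hg
  by_cases hqp : q = p
  · subst hqp
    refine htriv fun g e => ?_
    rcases eq_or_ne e 0 with rfl | he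
    · exact smul_zero g
    have hdvd : q ∣ Nat.card E := by
      rw [← addOrderOf_eq_prime (hE e) he]
      exact addOrderOf_dvd_natCard e
    obtain ⟨e0, he0, hne⟩ := hP.exists_fixed_point_of_prime_dvd_card_of_fixed_point E hdvd (a := (0 : E))
      (fun g => smul_zero g)
    have hc := hconst e0 e hne.symm he
    rw [show stabilizer P e0 = ⊤ from eq_top_iff.2 fun g _ => he0 g, Subgroup.card_top] at hc
    have htop : stabilizer P e = ⊤ := Subgroup.eq_top_of_card_eq _ hc.symm
    exact mem_stabilizer_iff.mp (htop ▸ Subgroup.mem_top g)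
  have hnsmul : ∀ x : E, p • x = 0 → x = 0 := fun x hx => by
    have h1 : addOrderOf x ∣ p := addOrderOf_dvd_of_nsmul_eq_zero hx
    have h2 : addOrderOf x ∣ q := addOrderOf_dvd_of_nsmul_eq_zero (hE x)
    exact AddMonoid.addOrderOf_eq_one_iff.1 (Nat.dvd_one.1 (((Nat.coprime_primes hp.out hq).2 (Ne.symm hqp)) ▸ Nat.dvd_gcd h1 h2))
  have hpinj : ∀ x y : E, p • x = p • y → x = y := fun x y h =>
    sub_eq_zero.1 (hnsmul _ (by rw [smul_sub, h, sub_self]))
  have hcyc : IsCyclic P := by
    by_contra hnc
    obtain ⟨t, a, htc, ht, ha, haT, hconj⟩ := exists_pair hP hp2 hnc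
    have htp : t ^ p = 1 := ht ▸ pow_orderOf_eq_one t
    have hct : ∀ g : P, Commute g t := fun g => Subgroup.mem_center_iff.mp htc g
    have ht1 : t ≠ 1 := fun h => hp.out.one_lt.ne' (by rw [← ht, h, orderOf_one])
    -- `t` has no fixed points
    have hfix : ∀ x : E, t • x = x → x = 0 := by
      by_contra hcon
      push Not at hcon
      obtain ⟨x, hx, hx0⟩ := hcon
      obtain ⟨v, hv⟩ : ∃ v : E, t • v ≠ v := by
        by_contra hcon
        push Not at hcon
        exact ht1 (eq_of_smul_eq_smul fun e => (hcon e).trans (one_smul P e).symm)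
      have key : ∀ v : E, t • v ≠ v → ∀ y : E, t • y = y → y ≠ 0 →
          stabilizer P (p • v - avg p t v) = stabilizer P y := by
        intro v hv y hy hy0
        set w := p • v - avg p t v with hw
        have hw0 : avg p t w = 0 := by
          rw [hw, avg_sub, avg_of_fixed (avg_fixed htp v), avg_nsmul, sub_self]
        have hwne : w ≠ 0 := fun h => hv (hpinj _ _ (by
          rw [hw, sub_eq_zero] at h
          rw [← act_nsmul, h, avg_fixed htp]))
        have hle : stabilizer P (y + w) ≤ stabilizer P y ⊓ stabilizer P w := by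
          intro g hg
          have hg' : g • (y + w) = y + w := hg
          rw [smul_add] at hg'
          have h2 := congrArg (avg p t) hg'
          rw [avg_add, avg_add, ← avg_comm (hct g), ← avg_comm (hct g), hw0, smul_zero, add_zero, add_zero,
            avg_of_fixed hy, act_nsmul] at h2
          have hgy : g • y = y := hpinj _ _ h2
          rw [hgy] at hg'
          exact ⟨hgy, add_left_cancel hg'⟩
        have hne : y + w ≠ 0 := fun h => hy0 (hnsmul y (by
          have h2 := congrArg (avg p t) h
          rw [avg_add, hw0, add_zero, avg_of_fixed hy] at h2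
          rw [h2]
          simp [avg]))
        have h1 := Subgroup.eq_of_le_of_card_ge (hle.trans inf_le_left) (hconst y _ hy0 hne).le
        have h2 := Subgroup.eq_of_le_of_card_ge (hle.trans inf_le_right) (hconst w _ hwne hne).le
        rw [← h1, ← h2]
      have htx : t ∈ stabilizer P x := hx
      refine ht1 (Subgroup.mem_bot.1 (hall (stabilizer P x) (fun e he => ?_) ▸ htx))
      by_cases hte : t • e = e
      · rw [← key v hv x hx hx0, key v hv e hte he]
      · intro g hg
        have h1 : g ∈ stabilizer P (p • e - avg p t e) := by rw [key e hte x hx hx0]; exact hg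
        have hav : avg p t e = 0 ∨ g • avg p t e = avg p t e := by
          rcases eq_or_ne (avg p t e) 0 with h | h
          · exact Or.inl h
          · right
            have : g ∈ stabilizer P (avg p t e) := by
              rw [← key v hv _ (avg_fixed htp e) h, key v hv x hx hx0]; exact hg
            exact this
        have hav' : g • avg p t e = avg p t e := hav.elim (fun h => by rw [h, smul_zero]) id
        have h1' : g • (p • e - avg p t e) = p • e - avg p t e := h1
        rw [smul_sub, hav', sub_left_inj, act_nsmul] at h1'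
        exact hpinj _ _ h1'
    have hat : ∀ n : ℕ, Commute a (t ^ n) := fun n => (hct a).pow_right n
    -- the components
    let ai : ZMod p → P := fun i => a * t ^ i.val
    have hai : ∀ i, ai i ^ p = 1 := fun i => by
      rw [show ai i = a * t ^ i.val from rfl, (hat _).mul_pow, ha, one_mul, ← pow_mul, mul_comm, pow_mul, htp, one_pow]
    have htdiff : ∀ i k : ZMod p, (k : ZMod p) ≠ i → ∀ x : E, ai i • x = x → ai k • x = x → x = 0 := by
      intro i k hki x hi hk
      have h1 : (ai i)⁻¹ * ai k ∈ stabilizer P x := mul_mem (inv_mem hi) hk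
      have hz : (ai i)⁻¹ * ai k = t ^ ((k.val : ℤ) - i.val) := by
        rw [show ai i = a * t ^ i.val from rfl, show ai k = a * t ^ k.val from rfl, zpow_sub, zpow_natCast, zpow_natCast,
          mul_inv_rev, mul_assoc, inv_mul_cancel_left]
        exact ((Commute.refl t).pow_pow _ _).inv_left.eq
      rw [hz] at h1
      have hcop : IsCoprime ((k.val : ℤ) - i.val) (p : ℤ) := by
        refine (Prime.coprime_iff_not_dvd (Nat.prime_iff_prime_int.mp hp.out)).2 ?_ |>.symm
        intro hd
        rw [← ZMod.intCast_zmod_eq_zero_iff_dvd] at hd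
        push_cast at hd
        rw [ZMod.natCast_zmod_val, ZMod.natCast_zmod_val, sub_eq_zero] at hd
        exact hki hd
      obtain ⟨u, w, huw⟩ := hcop
      refine hfix x ?_
      have : t ∈ stabilizer P x := by
        have h2 := zpow_mem h1 u
        rw [← zpow_mul] at h2
        have h3 : t ^ (((k.val : ℤ) - i.val) * u) = t := by
          rw [show ((k.val : ℤ) - i.val) * u = 1 - p * w by linear_combination huw, zpow_sub, zpow_one, zpow_mul,
            zpow_natCast, htp, one_zpow, inv_one, mul_one]
        rwa [h3] at h2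
      exact this
    have hproj : ∀ i k : ZMod p, k ≠ i → ∀ x : E, ai k • x = x → avg p (ai i) x = 0 := by
      intro i k hki x hx
      refine htdiff i k hki _ (avg_fixed (hai i) x) ?_
      rw [avg_comm (g := ai i) (k := ai k), hx]
      exact ((Commute.refl a).mul_right (hat _)).mul_left
        (((hat _).symm).mul_right ((Commute.refl t).pow_pow _ _))
    have hdecomp : ∀ x : E, ∑ i : ZMod p, avg p (ai i) x = p • x := by
      intro x
      simp only [avg]
      rw [Finset.sum_comm, Finset.sum_eq_single 0]
      · simp [Finset.card_univ, ZMod.card]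
      · intro j hj hj0
        have hterm : ∀ i : ZMod p, ai i ^ j • x = (t ^ j) ^ i.val • (a ^ j • x) := fun i => by
          rw [show ai i = a * t ^ i.val from rfl, (hat _).mul_pow, ← mul_smul, ← pow_mul, ← pow_mul, mul_comm j,
            (((hat _).symm).pow_right j).eq]
        rw [Finset.sum_congr rfl fun i _ => hterm i]
        have he : ∑ i : ZMod p, (t ^ j) ^ i.val • (a ^ j • x) = avg p (t ^ j) (a ^ j • x) := by
          simp only [avg]
          refine Finset.sum_bij (fun i _ => i.val) (fun i _ => Finset.mem_range.2 (ZMod.val_lt i))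
            (fun i _ k _ h => ZMod.val_injective p h)
            (fun l hl => ⟨(l : ZMod p), Finset.mem_univ _, ZMod.val_natCast_of_lt (Finset.mem_range.1 hl)⟩)
            (fun i _ => rfl)
        rw [he]
        refine hfix _ ?_
        obtain ⟨m, hm⟩ := exists_pow_eq_self_of_coprime (x := t) (n := j) (by
          rw [ht]
          exact ((Nat.Prime.coprime_iff_not_dvd hp.out).2 (fun hd =>
            absurd (Nat.le_of_dvd (Nat.pos_of_ne_zero hj0) hd) (not_le.2 (Finset.mem_range.1 hj)))).symm)
        have hmem : t ^ j ∈ stabilizer P (avg p (t ^ j) (a ^ j • x)) :=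
          avg_fixed (by rw [← pow_mul, mul_comm, pow_mul, htp, one_pow]) _
        have := pow_mem hmem m
        rwa [hm] at this
      · exact fun h => absurd (Finset.mem_range.2 hp.out.pos) h
    have hother : ∀ i : ZMod p, ∃ k, k ≠ i ∧ ∃ y : E, y ≠ 0 ∧ ai k • y = y := by
      intro i
      by_contra hcon
      push Not at hcon
      refine haT ?_
      have hai1 : ai i = 1 := eq_of_smul_eq_smul (α := E) fun e => by
        rw [one_smul]
        refine hpinj _ _ ?_
        have hd := hdecomp e
        rw [Finset.sum_eq_single i (fun k _ hk => by_contra fun h => hcon k hk _ h (avg_fixed (hai k) e))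
          (fun h => absurd (Finset.mem_univ i) h)] at hd
        rw [← act_nsmul, ← hd]
        exact avg_fixed (hai i) e
      rw [show a = (t ^ i.val)⁻¹ from eq_inv_of_mul_eq_one_left hai1]
      exact inv_mem (Subgroup.npow_mem_zpowers t _)
    have hne0 : ∀ (i k : ZMod p), k ≠ i → ∀ x y : E, ai i • x = x → ai k • y = y → x ≠ 0 → x + y ≠ 0 := by
      intro i k hki x y hx hy hx0 h
      refine hx0 (hnsmul x ?_)
      have h2 := congrArg (avg p (ai i)) h
      rw [avg_add, hproj i k hki y hy, add_zero, avg_of_fixed hx] at h2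
      rw [h2]
      simp [avg]
    have hsame : ∀ (i k : ZMod p), k ≠ i → ∀ x y : E, ai i • x = x → ai k • y = y → x ≠ 0 → y ≠ 0 →
        stabilizer P x = stabilizer P y := by
      intro i k hki x y hx hy hx0 hy0
      have hle : stabilizer P (x + y) ≤ stabilizer P x ⊓ stabilizer P y := by
        intro g hg
        have hg' : g • x + g • y = x + y := by rw [← smul_add]; exact hg
        obtain ⟨c, hc⟩ := hconj g
        have hgai : ∀ l : ZMod p, g * ai l * g⁻¹ = ai (l + c) := fun l => by
          show g * (a * t ^ l.val) * g⁻¹ = a * t ^ (l + (c : ZMod p)).val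
          rw [show g * (a * t ^ l.val) * g⁻¹ = g * a * g⁻¹ * (g * t ^ l.val * g⁻¹) by group, hc,
            ((hct g).pow_right _).eq, mul_inv_cancel_right, mul_assoc, ← pow_add]
          congr 1
          rw [pow_inj_mod, ht, ZMod.val_add, ZMod.val_natCast]
          simp [Nat.add_mod, add_comm]
        have hfx : ∀ (l : ZMod p) (z : E), ai l • z = z → ai (l + c) • g • z = g • z := fun l z hz => by
          rw [← hgai, ← mul_smul, inv_mul_cancel_right, mul_smul, hz]
        have hc0 : (c : ZMod p) = 0 := by
          by_contra hc0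
          have hs : ∀ (i k : ZMod p), k ≠ i → ∀ x y : E, ai i • x = x → ai k • y = y → x ≠ 0 →
              g • x + g • y = x + y → i = k + c := by
            intro i k hki x y hx hy hx0 hg'
            by_contra hik
            refine hx0 (hnsmul x ?_)
            have h2 := congrArg (avg p (ai i)) hg'
            rw [avg_add, avg_add, hproj i (i + c) (fun h => hc0 (by simpa using h)) _ (hfx i x hx),
              hproj i (k + c) (Ne.symm hik) _ (hfx k y hy), hproj i k hki y hy, add_zero, add_zero,
              avg_of_fixed hx] at h2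
            exact h2.symm
          have h1 := hs i k hki x y hx hy hx0 hg'
          have h2 := hs k i (Ne.symm hki) y x hy hx hy0 (by rw [add_comm, hg', add_comm])
          have h3 : (2 : ZMod p) * c = 0 := by linear_combination -h1 - h2
          rcases mul_eq_zero.1 h3 with h4 | h4
          · have : ((2 : ℕ) : ZMod p) = 0 := by exact_mod_cast h4
            rw [ZMod.natCast_eq_zero_iff] at this
            exact hp2 ((Nat.prime_dvd_prime_iff_eq hp.out Nat.prime_two).1 this)
          · exact hc0 h4
        have hgx : g • x = x := by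
          refine hpinj _ _ ?_
          have h2 := congrArg (avg p (ai i)) hg'
          have hgx' := hfx i x hx
          have hgy' := hfx k y hy
          rw [hc0, add_zero] at hgx' hgy'
          rwa [avg_add, avg_add, hproj i k hki _ hgy', hproj i k hki y hy, add_zero, add_zero,
            avg_of_fixed hgx', avg_of_fixed hx] at h2
        rw [hgx] at hg'
        exact ⟨hgx, add_left_cancel hg'⟩
      have hne := hne0 i k hki x y hx hy hx0
      have h1 := Subgroup.eq_of_le_of_card_ge (hle.trans inf_le_left) (hconst x _ hx0 hne).le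
      have h2 := Subgroup.eq_of_le_of_card_ge (hle.trans inf_le_right) (hconst y _ hy0 hne).le
      rw [← h1, ← h2]
    obtain ⟨i, -, x, hx0, hx⟩ := hother 0
    have haix : ai i ∈ stabilizer P x := hx
    have hai1 : ai i = 1 := Subgroup.mem_bot.1 (hall (stabilizer P x) (fun e _ g hg => by
      show g • e = e
      refine hpinj _ _ ?_
      rw [← act_nsmul, ← hdecomp e, Finset.smul_sum]
      refine Finset.sum_congr rfl fun l _ => ?_
      rcases eq_or_ne (avg p (ai l) e) 0 with h | h
      · rw [h, smul_zero]
      obtain ⟨k, hkl, y, hy0, hy⟩ := hother l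
      have hxl : stabilizer P (avg p (ai l) e) = stabilizer P x := by
        rcases eq_or_ne l i with rfl | hli
        · rw [hsame l k hkl _ y (avg_fixed (hai l) e) hy h hy0, hsame l k hkl x y hx hy hx0 hy0]
        · exact hsame l i (Ne.symm hli) _ x (avg_fixed (hai l) e) hx h hx0
      exact (hxl ▸ hg : g ∈ stabilizer P (avg p (ai l) e))) ▸ haix)
    exact haT (by rw [show a = (t ^ i.val)⁻¹ from eq_inv_of_mul_eq_one_left hai1]; exact inv_mem (Subgroup.npow_mem_zpowers t _))
  refine ⟨hcyc, fun g hg a ha => by_contra fun ha0 => hg ?_⟩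
  haveI : Fintype P := Fintype.ofFinite P
  refine Subgroup.mem_bot.1 (hall (stabilizer P a) (fun e he => le_of_eq ?_) ▸ (ha : g ∈ stabilizer P a))
  obtain ⟨x, hx⟩ := IsCyclic.exists_generator (α := P)
  have key : ∀ S : Subgroup P, ∀ y : P, y ∈ S ↔ y ^ Nat.card S = 1 := by
    intro S y
    refine ⟨fun hy => orderOf_dvd_iff_pow_eq_one.mp (Subgroup.orderOf_dvd_natCard S hy), fun hy => ?_⟩
    have hsub : ((Finset.univ : Finset P).filter fun z => z ∈ S) ⊆ Finset.univ.filter fun z => z ^ Nat.card S = 1 :=
      fun z hz => Finset.mem_filter.2 ⟨Finset.mem_univ _, orderOf_dvd_iff_pow_eq_one.mp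
        (Subgroup.orderOf_dvd_natCard S (Finset.mem_filter.1 hz).2)⟩
    have heq := Finset.eq_of_subset_of_card_le hsub ((IsCyclic.card_pow_eq_one_le Nat.card_pos).trans (by
      rw [← Fintype.card_subtype, ← Nat.card_eq_fintype_card]))
    have : y ∈ (Finset.univ : Finset P).filter fun z => z ∈ S := heq ▸ Finset.mem_filter.2 ⟨Finset.mem_univ _, hy⟩
    exact (Finset.mem_filter.1 this).2
  refine Subgroup.ext fun y => ?_
  rw [key, key, hconst a e ha0 he]

end Cfsg.Agent.HalfTransP
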