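import Cfsg.Agent.Lib.HalfTransP.TwoMain
import Mathlib.GroupTheory.Perm.Basic

/-!
# Irreducible linear `p`-groups are imprimitive unless of maximal class type (Roquette)
-/

set_option autoImplicit false
set_option linter.style.haveILetI false
set_option linter.unusedSectionVars false

namespace Cfsg.Agent.HalfTransP

open MulAction
open scoped Classical

universe u v

variable {G : Type u} [Group G] [Finite G]

theorem exists_pair_two (hG : IsPGroup 2 G) (hnc : ¬ IsCyclic G)
    (hnq : ∀ n : ℕ, ¬ Nonempty (G ≃* QuaternionGroup n))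
    (hnd : ∀ n : ℕ, ¬ Nonempty (G ≃* DihedralGroup n)) (hnsd : ¬ Cfsg.IsQuasiDihedral G) :
    ∃ t a : G, t ∈ Subgroup.center G ∧ orderOf t = 2 ∧ a ^ 2 = 1 ∧ a ∉ Subgroup.zpowers t ∧
      ∀ g : G, ∃ c : ℕ, g * a * g⁻¹ = a * t ^ c := by
  haveI : Fact (Nat.Prime 2) := ⟨Nat.prime_two⟩
  by_cases hn : ∀ A : Subgroup G, A.Normal → IsMulCommutative A → IsCyclic A
  · exfalso
    by_cases huniq : ∀ H K : Subgroup G, Nat.card H = 2 → Nat.card K = 2 → H = K
    · rcases Cfsg.Agent.S0016.result 2 hG huniq with h | ⟨-, n, h⟩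
      · exact hnc h
      · exact hnq _ h
    push Not at huniq
    obtain ⟨H, K, hH, hK, hne⟩ := huniq
    haveI : Nontrivial G := by
      by_contra h
      rw [not_nontrivial_iff_subsingleton] at h
      exact hnc isCyclic_of_subsingleton
    obtain ⟨z, -, hzo, hzc'⟩ := NormalFour.exists_central_mem hG (N := (⊤ : Subgroup G)) top_ne_bot
    obtain ⟨x, hx, hxz⟩ : ∃ x : G, orderOf x = 2 ∧ x ≠ z := by
      by_contra hcon
      push Not at hcon
      have key : ∀ L : Subgroup G, Nat.card L = 2 → L = Subgroup.zpowers z := fun L hL => by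
        obtain ⟨x, hx⟩ := exists_prime_orderOf_dvd_card' (G := L) 2 (hL ▸ dvd_rfl)
        rw [← Subgroup.orderOf_coe] at hx
        refine (Subgroup.eq_of_le_of_card_ge (Subgroup.zpowers_le.2 (hcon _ hx ▸ x.2)) ?_).symm
        rw [Nat.card_zpowers, hzo, hL]
      exact hne ((key H hH).trans (key K hK).symm)
    have hB : ∃ B : Subgroup G, IsMulCommutative B ∧ ¬ IsCyclic B := by
      refine ⟨Subgroup.closure {z, x}, Subgroup.isMulCommutative_closure ?_, fun hcyc => hxz ?_⟩
      · rintro a (rfl | rfl) b (rfl | rfl)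
        · rfl
        · exact (Subgroup.mem_center_iff.mp hzc' _).symm
        · exact Subgroup.mem_center_iff.mp hzc' _
        · rfl
      · haveI : IsCyclic (Subgroup.closure {z, x}) := hcyc
        haveI : Fintype (Subgroup.closure {z, x}) := Fintype.ofFinite _
        by_contra hne'
        have h2 := IsCyclic.card_pow_eq_one_le (α := Subgroup.closure {z, x}) (n := 2) two_pos
        have hz1 : z ≠ 1 := fun h => by rw [h, orderOf_one] at hzo; omega
        have hx1 : x ≠ 1 := fun h => by rw [h, orderOf_one] at hx; omega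
        have h3 : ({1, ⟨z, Subgroup.subset_closure (Or.inl rfl)⟩,
            ⟨x, Subgroup.subset_closure (Or.inr rfl)⟩} : Finset (Subgroup.closure {z, x})) ⊆
            Finset.univ.filter fun a => a ^ 2 = 1 := by
          intro a ha
          rw [Finset.mem_filter]
          refine ⟨Finset.mem_univ _, Subtype.ext ?_⟩
          simp only [Finset.mem_insert, Finset.mem_singleton] at ha
          have e1 : z ^ 2 = 1 := hzo ▸ pow_orderOf_eq_one z
          have e2 : x ^ 2 = 1 := hx ▸ pow_orderOf_eq_one x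
          rcases ha with rfl | rfl | rfl <;> simp [e1, e2]
        have := (Finset.card_le_card h3).trans h2
        rw [Finset.card_insert_of_notMem, Finset.card_pair] at this
        · omega
        · exact fun h => hne' (congrArg Subtype.val h).symm
        · simp only [Finset.mem_insert, Finset.mem_singleton, not_or]
          exact ⟨fun h => hz1 (congrArg Subtype.val h).symm, fun h => hx1 (congrArg Subtype.val h).symm⟩
    rcases (Cfsg.Agent.S0519.result 2 hG hn hB).2 with ⟨n, h⟩ | ⟨n, -, h⟩ | h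
    · exact hnq n h
    · exact hnd n h
    · exact hnsd h
  push Not at hn
  obtain ⟨A, hAn, hAc, hAnc⟩ := hn
  haveI := hAn
  letI : CommGroup A := { (inferInstance : Group A) with mul_comm := hAc.is_comm.comm }
  set Ω := ((powMonoidHom 2 : A →* A).ker).map A.subtype with hΩ
  have hΩ2 : ∀ a ∈ Ω, a * a = 1 := by
    rintro _ ⟨a, ha, rfl⟩
    have : a ^ 2 = 1 := ha
    rw [pow_two] at this
    exact congrArg Subtype.val this
  haveI : Ω.Normal := ⟨by
    rintro _ ⟨a, ha, rfl⟩ g
    refine ⟨⟨g * a * g⁻¹, hAn.conj_mem _ a.2 g⟩, ?_, rfl⟩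
    show (⟨g * a * g⁻¹, _⟩ : A) ^ 2 = 1
    refine Subtype.ext ?_
    show (g * (a : G) * g⁻¹) ^ 2 = 1
    have : a ^ 2 = 1 := ha
    rw [conj_pow, show (a : G) ^ 2 = 1 from congrArg Subtype.val this, mul_one, mul_inv_cancel]⟩
  obtain ⟨k, hk⟩ := IsPGroup.iff_card.1 ((hG.to_subgroup A).to_subgroup (powMonoidHom 2 : A →* A).ker)
  have h4 : 4 ≤ Nat.card (powMonoidHom 2 : A →* A).ker := by
    rw [hk]
    by_contra hlt
    refine hAnc (NormalFour.isCyclic_of_sqrt_le_two (hG.to_subgroup A) ?_)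
    rw [hk]
    rcases k with _ | _ | k
    · norm_num
    · norm_num
    · exact absurd (Nat.pow_le_pow_right two_pos (by omega : 2 ≤ k + 2)) hlt
  obtain ⟨W, hWn, hWle, hW⟩ := NormalFour.exists_normal_four_le hG (N := Ω) hΩ2
    (by rwa [hΩ, ← Nat.card_congr (Subgroup.equivMapOfInjective _ _ A.subtype_injective).toEquiv])
  haveI := hWn
  obtain ⟨t, htW, hto, htc⟩ := NormalFour.exists_central_mem hG (N := W)
    (fun h => by rw [h, Subgroup.card_bot] at hW; omega)
  obtain ⟨a, haW, hat⟩ : ∃ a ∈ W, a ∉ Subgroup.zpowers t := by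
    by_contra hcon
    push Not at hcon
    have := Subgroup.card_le_of_le (hcon : W ≤ Subgroup.zpowers t)
    rw [hW, Nat.card_zpowers, hto] at this
    omega
  refine ⟨t, a, htc, hto, by rw [pow_two]; exact hΩ2 a (hWle haW), hat, fun g => ?_⟩
  have hconj : g * a * g⁻¹ ∈ W := hWn.conj_mem a haW g
  by_contra hcon
  push Not at hcon
  have h0 := hcon 0
  have h1 := hcon 1
  rw [pow_zero, mul_one] at h0
  rw [pow_one] at h1
  have hct : ∀ h : G, h * t = t * h := Subgroup.mem_center_iff.mp htc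
  have hc1 : g * a * g⁻¹ ≠ 1 := fun h => hat (by rw [conj_eq_one_iff.1 h]; exact one_mem _)
  have hct' : g * a * g⁻¹ ≠ t := fun h => hat (by
    have : a = g⁻¹ * (g * a * g⁻¹) * g := by group
    rw [this, h, mul_assoc, ← hct g, inv_mul_cancel_left]
    exact Subgroup.mem_zpowers t)
  have ht1 : t ≠ 1 := fun h => by rw [h, orderOf_one] at hto; omega
  have ha1 : a ≠ 1 := fun h => hat (h ▸ one_mem _)
  have hat1 : a * t ≠ 1 := fun h => hat (by
    rw [eq_inv_of_mul_eq_one_left h]; exact inv_mem (Subgroup.mem_zpowers t))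
  have hatt : a ≠ t := fun h => hat (h ▸ Subgroup.mem_zpowers t)
  have hS : Set.ncard ({1, t, a, a * t, g * a * g⁻¹} : Set G) = 5 := by
    rw [Set.ncard_insert_of_notMem, Set.ncard_insert_of_notMem, Set.ncard_insert_of_notMem,
      Set.ncard_pair h1.symm] <;>
      simp only [Set.mem_insert_iff, Set.mem_singleton_iff, not_or]
    · exact ⟨fun h => ht1 (by simpa using h.symm), h0.symm⟩
    · exact ⟨hatt.symm, fun h => ha1 (by simpa using h.symm), hct'.symm⟩
    · exact ⟨ht1.symm, ha1.symm, hat1.symm, hc1.symm⟩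
  have hsub : ({1, t, a, a * t, g * a * g⁻¹} : Set G) ⊆ W := by
    rintro x (rfl | rfl | rfl | rfl | rfl)
    exacts [one_mem W, htW, haW, mul_mem haW htW, hconj]
  have := Set.ncard_le_ncard hsub
  rw [hS, ← Nat.card_coe_set_eq, SetLike.coe_sort_coe, hW] at this
  omega

variable {V : Type v} [AddCommGroup V] [Finite V] [Nontrivial V] {q : ℕ} [Fact q.Prime] [Module (ZMod q) V]
  [DistribMulAction G V] [SMulCommClass G (ZMod q) V] [FaithfulSMul G V]

theorem roquette {p : ℕ} [hpf : Fact p.Prime] (hG : IsPGroup p G)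
    (hirr : ∀ W : Submodule (ZMod q) V, (∀ g : G, ∀ w ∈ W, g • w ∈ W) → W = ⊥ ∨ W = ⊤)
    (hnc : ¬ IsCyclic G) (hnq : ∀ n : ℕ, ¬ Nonempty (G ≃* QuaternionGroup n))
    (hnd : ∀ n : ℕ, ¬ Nonempty (G ≃* DihedralGroup n)) (hnsd : ¬ Cfsg.IsQuasiDihedral G) :
    ∃ (H : Subgroup G) (W : Fin p → Submodule (ZMod q) V), H.index = p ∧
      iSup W = ⊤ ∧ iSupIndep W ∧
      (∀ h ∈ H, ∀ i, ∀ w ∈ W i, h • w ∈ W i) ∧
      (∀ i, ∃ h ∈ H, h ≠ 1 ∧ ∀ w ∈ W i, h • w = w) ∧
      ∀ g : G, g ∉ H → ∃ σ : Equiv.Perm (Fin p), orderOf σ = p ∧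
        ∀ i, (∀ w ∈ W i, g • w ∈ W (σ i)) ∧ ∀ w ∈ W (σ i), g⁻¹ • w ∈ W i := by
  have hp : p.Prime := Fact.out
  have hqp : q ≠ p := by
    rintro rfl
    refine hnc ?_
    have hqV : q ∣ Nat.card V := by
      obtain ⟨e, he⟩ := exists_ne (0 : V)
      rw [← addOrderOf_eq_prime (p := q) (x := e)
        (by rw [← Nat.cast_smul_eq_nsmul (ZMod q), ZMod.natCast_self, zero_smul]) he]
      exact addOrderOf_dvd_natCard e
    obtain ⟨e0, he0, hne⟩ := hG.exists_fixed_point_of_prime_dvd_card_of_fixed_point V hqV (a := (0 : V))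
      (fun g => smul_zero g)
    let F : Submodule (ZMod q) V := ⨅ g : G, fixSpace q (V := V) g
    have hF : ∀ x, x ∈ F ↔ ∀ g : G, g • x = x := fun x => Submodule.mem_iInf _
    have htop : F = ⊤ := (hirr F fun g w hw => (hF _).2 fun k => by
      rw [(hF w).1 hw g, (hF w).1 hw k]).resolve_left fun h => hne
        ((Submodule.mem_bot (ZMod q)).1 (h ▸ (hF e0).2 he0)).symm
    haveI : Subsingleton G := ⟨fun g k => eq_of_smul_eq_smul fun v : V => by
      rw [(hF v).1 (htop ▸ Submodule.mem_top) g, (hF v).1 (htop ▸ Submodule.mem_top) k]⟩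
    exact isCyclic_of_subsingleton
  obtain ⟨t, a, htc, ht, ha, haT, hconj⟩ : ∃ t a : G, t ∈ Subgroup.center G ∧ orderOf t = p ∧ a ^ p = 1 ∧
      a ∉ Subgroup.zpowers t ∧ ∀ g : G, ∃ c : ℕ, g * a * g⁻¹ = a * t ^ c := by
    by_cases hp2 : p = 2
    · subst hp2; exact exists_pair_two hG hnc hnq hnd hnsd
    · exact exists_pair hG hp2 hnc
  have hct : ∀ g : G, Commute g t := fun g => Subgroup.mem_center_iff.mp htc g
  have htp : t ^ p = 1 := ht ▸ pow_orderOf_eq_one t
  have ht1 : t ≠ 1 := fun h => hp.one_lt.ne' (by rw [← ht, h, orderOf_one])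
  have hpq : (p : ZMod q) ≠ 0 := fun h => by
    rw [ZMod.natCast_eq_zero_iff] at h
    exact hqp ((Nat.prime_dvd_prime_iff_eq Fact.out hp).1 h)
  have hpinj : ∀ x : V, p • x = 0 → x = 0 := fun x hx => by
    rw [← Nat.cast_smul_eq_nsmul (ZMod q)] at hx
    exact (smul_eq_zero.1 hx).resolve_left hpq
  have hfixt : ∀ x : V, t • x = x → x = 0 := by
    have h := hirr (fixSpace q (V := V) t) fun g w hw => by
      show t • g • w = g • w
      rw [← mul_smul, ← (hct g).eq, mul_smul, show t • w = w from hw]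
    rcases h with h | h
    · exact fun x hx => (Submodule.mem_bot (ZMod q)).1 (h ▸ hx)
    · refine absurd (eq_of_smul_eq_smul (α := V) fun v => ?_) ht1
      rw [one_smul]
      exact (h ▸ Submodule.mem_top : v ∈ fixSpace q (V := V) t)
  have hpow : ∀ {c : ℕ}, ¬ p ∣ c → ∀ x : V, t ^ c • x = x → x = 0 := by
    intro c hc x hx
    obtain ⟨m, hm⟩ := exists_pow_eq_self_of_coprime (n := c) (x := t)
      (by rw [ht]; exact (hp.coprime_iff_not_dvd.2 hc).symm)
    refine hfixt x ?_
    have := (stabilizer G x).pow_mem (show t ^ c ∈ stabilizer G x from hx) m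
    rwa [hm] at this
  let b : Fin p → G := fun i => a * t ^ (i : ℕ)
  have hbp : ∀ i, b i ^ p = 1 := fun i => by
    show (a * t ^ (i : ℕ)) ^ p = 1
    rw [((hct a).pow_right _).mul_pow, ha, ← pow_mul, mul_comm, pow_mul, htp, one_pow, one_mul]
  let W : Fin p → Submodule (ZMod q) V := fun i => fixSpace q (b i)
  have hspan : ∀ v : V, v ∈ iSup W := by
    intro v
    have hsum : ∑ i : Fin p, avg p (b i) v = p • v := by
      simp only [avg, b]
      rw [Finset.sum_comm, Finset.sum_eq_single 0]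
      · simp
      · intro j hj hj0
        rw [Finset.mem_range] at hj
        have h1 : ∀ i : Fin p, (a * t ^ (i : ℕ)) ^ j • v = a ^ j • ((t ^ j) ^ (i : ℕ) • v) := fun i => by
          rw [((hct a).pow_right _).mul_pow, mul_smul, ← pow_mul, ← pow_mul, mul_comm]
        rw [Finset.sum_congr rfl fun i _ => h1 i, ← Finset.smul_sum,
          Fin.sum_univ_eq_sum_range (fun i => (t ^ j) ^ i • v)]
        have h2 : avg p (t ^ j) v = 0 := hpow (fun hd => by
          have := Nat.le_of_dvd (Nat.pos_of_ne_zero hj0) hd; omega) _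
            (avg_fixed (by rw [← pow_mul, mul_comm, pow_mul, htp, one_pow]) v)
        rw [show ∑ i ∈ Finset.range p, (t ^ j) ^ i • v = avg p (t ^ j) v from rfl, h2, smul_zero]
      · intro h; exact absurd (Finset.mem_range.2 hp.pos) h
    have h3 : v = (p : ZMod q)⁻¹ • ∑ i : Fin p, avg p (b i) v := by
      rw [hsum, ← Nat.cast_smul_eq_nsmul (ZMod q), inv_smul_smul₀ hpq]
    rw [h3]
    exact Submodule.smul_mem _ _ (Submodule.sum_mem _ fun i _ =>
      Submodule.mem_iSup_of_mem i (avg_fixed (hbp i) v))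
  have htop : iSup W = ⊤ := eq_top_iff.2 fun v _ => hspan v
  have hbne : ∀ i, b i ≠ 1 := fun i h => haT (by
    rw [eq_inv_of_mul_eq_one_left h]; exact inv_mem (Subgroup.npow_mem_zpowers t _))
  let ψ : G →* Subgroup.zpowers t :=
    MonoidHom.mk' (fun g => ⟨a⁻¹ * (g * a * g⁻¹), by
      obtain ⟨c, hc⟩ := hconj g
      rw [hc, inv_mul_cancel_left]
      exact Subgroup.npow_mem_zpowers t c⟩) (fun g h => Subtype.ext (by
      obtain ⟨c, hc⟩ := hconj g
      obtain ⟨d, hd⟩ := hconj h
      show a⁻¹ * (g * h * a * (g * h)⁻¹) = a⁻¹ * (g * a * g⁻¹) * (a⁻¹ * (h * a * h⁻¹))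
      rw [hd, show g * h * a * (g * h)⁻¹ = g * (h * a * h⁻¹) * g⁻¹ by group, hd,
        show g * (a * t ^ d) * g⁻¹ = g * a * g⁻¹ * (g * t ^ d * g⁻¹) by group,
        ((hct g).pow_right d).eq, mul_inv_cancel_right, inv_mul_cancel_left]
      simp only [mul_assoc]))
  have hψ : ∀ g, g ∈ ψ.ker ↔ g * a * g⁻¹ = a := fun g => by
    rw [MonoidHom.mem_ker, ← Subtype.coe_inj]
    show a⁻¹ * (g * a * g⁻¹) = 1 ↔ _
    rw [inv_mul_eq_one]
    exact eq_comm
  have hker : ∀ g ∈ ψ.ker, ∀ i, g * b i * g⁻¹ = b i := fun g hg i => by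
    show g * (a * t ^ (i : ℕ)) * g⁻¹ = _
    rw [show g * (a * t ^ (i : ℕ)) * g⁻¹ = g * a * g⁻¹ * (g * t ^ (i : ℕ) * g⁻¹) by group, (hψ g).1 hg,
      ((hct g).pow_right _).eq, mul_inv_cancel_right]
  have hmove : ∀ (g : G) (i j : Fin p), g * b i * g⁻¹ = b j → ∀ w ∈ W i, g • w ∈ W j := by
    intro g i j h w hw
    show b j • g • w = g • w
    rw [← h, ← mul_smul, show g * b i * g⁻¹ * g = g * b i by group, mul_smul, show b i • w = w from hw]
  have hne : ∃ g, g ∉ ψ.ker := by
    by_contra hcon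
    push Not at hcon
    have hbot : ∀ i, W i = ⊥ := fun i => (hirr (W i) fun g w hw =>
      hmove g i i (hker g (hcon g) i) w hw).resolve_right fun h => hbne i
        (eq_of_smul_eq_smul (α := V) fun v => by
          rw [one_smul]; exact (h ▸ Submodule.mem_top : v ∈ W i))
    obtain ⟨v, hv⟩ := exists_ne (0 : V)
    have := hspan v
    rw [show W = fun _ => ⊥ from funext hbot, iSup_bot, Submodule.mem_bot] at this
    exact hv this
  have hidx : ψ.ker.index = p := by
    rw [Subgroup.index_ker]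
    have hd : Nat.card ψ.range ∣ p := by
      have := Subgroup.card_subgroup_dvd_card ψ.range
      rwa [Nat.card_zpowers, ht] at this
    refine (hp.eq_one_or_self_of_dvd _ hd).resolve_left fun h1 => ?_
    obtain ⟨g, hg⟩ := hne
    exact hg (Subtype.ext (congrArg Subtype.val (Subgroup.mem_bot.1
      ((Subgroup.eq_bot_of_card_eq _ h1) ▸ (⟨g, rfl⟩ : ψ g ∈ ψ.range)))))
  refine ⟨ψ.ker, W, hidx, htop, fun i => ?_, fun h hh i w hw => hmove h i i (hker h hh i) w hw,
    fun i => ⟨b i, ?_, hbne i, fun w hw => hw⟩, fun g hg => ?_⟩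
  · rw [disjoint_iff, eq_bot_iff]
    rintro x ⟨hx1, hx2⟩
    let P : V →ₗ[ZMod q] V :=
      { toFun := avg p (b i)
        map_add' := avg_add _
        map_smul' := fun c x => by simp only [avg, smul_comm _ c, Finset.smul_sum, RingHom.id_apply] }
    have hle : (⨆ (j) (_ : j ≠ i), W j) ≤ LinearMap.ker P := by
      refine iSup₂_le fun j hj y hy => LinearMap.mem_ker.2 ?_
      have hbc : Commute (b i) (b j) :=
        Commute.mul_left ((Commute.refl a).mul_right ((hct a).pow_right _))
          ((((hct a).pow_right _).symm).mul_right ((Commute.refl t).pow_pow _ _))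
      have h1 : b i • P y = P y := avg_fixed (hbp i) y
      have h2 : b j • P y = P y := by
        show b j • avg p (b i) y = avg p (b i) y
        rw [avg_comm hbc.symm, show b j • y = y from hy]
      -- both fixed, so fixed by a power of `t`
      have key : ∀ k l : Fin p, (k : ℕ) < l → b k • P y = P y → b l • P y = P y → P y = 0 := by
        intro k l hkl hk hl
        refine hpow (c := (l : ℕ) - k) (fun hd => ?_) _ ?_
        · have := Nat.le_of_dvd (by omega) hd
          have := l.2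
          omega
        · have hl' : t ^ ((l : ℕ) - k) • b k • P y = P y := by
            rw [← mul_smul, show t ^ ((l : ℕ) - k) * b k = b l by
              show t ^ ((l : ℕ) - k) * (a * t ^ (k : ℕ)) = a * t ^ (l : ℕ)
              rw [← mul_assoc, ← ((hct a).pow_right _).eq, mul_assoc, ← pow_add, Nat.sub_add_cancel hkl.le]]
            exact hl
          rwa [hk] at hl'
      rcases Nat.lt_trichotomy (i : ℕ) j with h | h | h
      · exact key i j h h1 h2
      · exact absurd (Fin.ext h) (Ne.symm hj)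
      · exact key j i h h2 h1
    have hx3 : avg p (b i) x = 0 := hle hx2
    rw [avg_of_fixed (show b i • x = x from hx1)] at hx3
    exact hpinj x hx3
  · refine (hψ _).2 ?_
    show a * t ^ (i : ℕ) * a * (a * t ^ (i : ℕ))⁻¹ = a
    rw [mul_assoc a, ← ((hct a).pow_right _).eq, ← mul_assoc]
    group
  · obtain ⟨c, hc⟩ := hconj g
    have hcp : ¬ p ∣ c := fun ⟨m, hm⟩ => hg ((hψ g).2 (by rw [hc, hm, pow_mul, htp, one_pow, mul_one]))
    haveI : NeZero p := ⟨hp.ne_zero⟩
    let cc : Fin p := ⟨c % p, Nat.mod_lt _ hp.pos⟩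
    refine ⟨Equiv.addRight cc, ?_, fun i => ?_⟩
    · refine orderOf_eq_prime (Equiv.ext fun i => ?_) fun h => hcp ?_
      · have hk : ∀ k : ℕ, ((((Equiv.addRight cc) ^ k) i : Fin p) : ℕ) = ((i : ℕ) + k * c) % p := by
          intro k
          induction k with
          | zero => simp [Nat.mod_eq_of_lt i.2]
          | succ k ih =>
            rw [pow_succ', Equiv.Perm.mul_apply, Equiv.coe_addRight, Fin.val_add, ih]
            show (((i : ℕ) + k * c) % p + c % p) % p = _
            rw [← Nat.add_mod, Nat.succ_mul, add_assoc]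
        exact Fin.ext (by rw [hk, Equiv.Perm.one_apply, Nat.add_mul_mod_self_left, Nat.mod_eq_of_lt i.2])
      · have h' := congrArg Fin.val (congrFun (congrArg DFunLike.coe h) (0 : Fin p))
        simp only [Equiv.coe_addRight, Equiv.Perm.one_apply, Fin.val_zero, zero_add] at h'
        exact Nat.dvd_of_mod_eq_zero (by simpa [cc, Nat.mod_mod] using h')
    · have hb : g * b i * g⁻¹ = b (Equiv.addRight cc i) := by
        show g * (a * t ^ (i : ℕ)) * g⁻¹ = a * t ^ ((i + cc : Fin p) : ℕ)
        rw [show g * (a * t ^ (i : ℕ)) * g⁻¹ = g * a * g⁻¹ * (g * t ^ (i : ℕ) * g⁻¹) by group, hc,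
          ((hct g).pow_right _).eq, mul_inv_cancel_right, mul_assoc, ← pow_add, Fin.val_add,
          show (cc : ℕ) = c % p from rfl, Nat.add_mod_mod, pow_eq_pow_mod (c + (i : ℕ)) htp, add_comm]
      refine ⟨hmove g i _ hb, hmove g⁻¹ _ i ?_⟩
      rw [← hb]; group

end Cfsg.Agent.HalfTransP
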