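import Cfsg.Agent.Lib.HalfTransP.Basic
import Cfsg.Agent.Lib.TwoGroups.NormalFour
import Mathlib.FieldTheory.Finiteness

/-!
# 2-groups with stabilisers of constant order on a vector space of odd characteristic
-/

set_option autoImplicit false
set_option linter.style.haveILetI false
set_option linter.unusedSectionVars false

namespace Cfsg.Agent.HalfTransP

open MulAction
open scoped Classical

theorem odd_geom {x : ℤ} (hx : Odd x) {d : ℕ} (hd : Odd d) : Odd (∑ i ∈ Finset.range d, x ^ i) := by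
  rw [← ZMod.intCast_eq_one_iff_odd, Int.cast_sum]
  simp only [Int.cast_pow, ZMod.intCast_eq_one_iff_odd.2 hx, one_pow, Finset.sum_const, Finset.card_range,
    nsmul_eq_mul, mul_one]
  exact ZMod.natCast_eq_one_iff_odd.2 hd

theorem isUnit_of_odd_dvd_two_pow {s : ℤ} (hs : Odd s) {k : ℕ} (h : s ∣ 2 ^ k) : s = 1 ∨ s = -1 := by
  have h1 : Nat.Coprime s.natAbs (2 ^ k) :=
    Nat.Coprime.pow_right _ (Nat.coprime_two_right.2 (Int.natAbs_odd.2 hs))
  have h2 : s.natAbs ∣ 2 ^ k := by simpa [Int.natAbs_pow] using Int.natAbs_dvd_natAbs.2 h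
  exact Int.natAbs_eq_iff.1 (Nat.Coprime.eq_one_of_dvd h1 h2)

theorem pow_sub_one_two_pow {q : ℕ} (hq : Odd q) (hq3 : 3 ≤ q) :
    ∀ {d k : ℕ}, q ^ d - 1 = 2 ^ k → d = 1 ∨ (q = 3 ∧ d = 2) := by
  intro d k h
  rcases Nat.even_or_odd d with ⟨e, rfl⟩ | hd
  · rcases Nat.eq_zero_or_pos e with rfl | he
    · simp only [add_zero, pow_zero, Nat.sub_self] at h
      exact absurd h.symm (pow_ne_zero k two_ne_zero)
    right
    have h1 : (q ^ e + 1) * (q ^ e - 1) = 2 ^ k := by
      rw [← h, pow_add]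
      simpa [pow_two] using (Nat.sq_sub_sq (q ^ e) 1).symm
    obtain ⟨i, -, hi⟩ := (Nat.dvd_prime_pow Nat.prime_two).1 (Dvd.intro _ h1)
    obtain ⟨j, -, hj⟩ := (Nat.dvd_prime_pow Nat.prime_two).1 (Dvd.intro_left _ h1)
    have hqe : 3 ≤ q ^ e := hq3.trans (Nat.le_self_pow he.ne' q)
    have hji : j < i := (Nat.pow_lt_pow_iff_right (by norm_num : 1 < 2)).1 (by omega)
    have h2 : 2 * 2 ^ j ≤ 2 ^ i := by
      rw [← pow_succ']; exact Nat.pow_le_pow_right two_pos hji
    have h3 : q ^ e = 3 := by omega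
    have h4 : q = 3 := le_antisymm (h3 ▸ Nat.le_self_pow he.ne' q) hq3
    subst h4
    have h5 : e = 1 := Nat.pow_right_injective (by norm_num : 2 ≤ 3) (h3.trans (pow_one 3).symm)
    exact ⟨rfl, by omega⟩
  · left
    have hg := geom_sum_mul (q : ℤ) d
    have hz : (q : ℤ) ^ d - 1 = 2 ^ k := by
      have h1 : 1 ≤ q ^ d := Nat.one_le_pow _ _ (by omega)
      have := congrArg (fun n : ℕ => (n : ℤ)) h
      push_cast [Nat.cast_sub h1] at this
      exact this
    rcases isUnit_of_odd_dvd_two_pow (odd_geom (by exact_mod_cast hq) hd) (k := k)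
      (Dvd.intro _ (hg.trans hz)) with h1 | h1
    · rw [h1, one_mul] at hg
      have h2 : q ^ d = q ^ 1 := by
        rw [pow_one]; exact_mod_cast (by linarith : (q : ℤ) ^ d = q)
      exact Nat.pow_right_injective (by omega : 2 ≤ q) h2
    · rw [h1] at hg
      have : (q : ℤ) ^ d ≥ 1 := one_le_pow₀ (by exact_mod_cast (by omega : 1 ≤ q))
      have : (3 : ℤ) ≤ q := by exact_mod_cast hq3
      linarith

theorem pow_add_one_two_pow {q : ℕ} (hq : Odd q) (hq3 : 3 ≤ q) :
    ∀ {d m : ℕ}, d ≠ 0 → q ^ d + 1 = 2 ^ m → d = 1 := by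
  intro d m hd0 h
  rcases Nat.even_or_odd d with ⟨e, rfl⟩ | hd
  · exfalso
    have h4 : (q ^ e * q ^ e) % 4 = 1 := by
      rw [Nat.mul_mod]
      rcases (by have := Nat.odd_iff.1 (hq.pow (n := e)); omega : q ^ e % 4 = 1 ∨ q ^ e % 4 = 3) with h | h <;>
        rw [h]
    rw [pow_add] at h
    have h5 : 3 * 3 ≤ q ^ e * q ^ e :=
      Nat.mul_le_mul (hq3.trans (Nat.le_self_pow (by omega) q)) (hq3.trans (Nat.le_self_pow (by omega) q))
    rcases m with _ | _ | m
    · omega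
    · omega
    · have : 4 ∣ 2 ^ (m + 2) := pow_dvd_pow 2 (m := 2) (by omega)
      omega
  · have hz : (q : ℤ) ^ d + 1 = 2 ^ m := by exact_mod_cast h
    have hg := geom_sum_mul (-(q : ℤ)) d
    rw [hd.neg_pow] at hg
    have hdvd : (∑ i ∈ Finset.range d, (-(q : ℤ)) ^ i) ∣ 2 ^ m := ⟨(q : ℤ) + 1, by linear_combination hg - hz⟩
    rcases isUnit_of_odd_dvd_two_pow (odd_geom (by simpa using hq) hd) hdvd with h1 | h1
    · rw [h1, one_mul] at hg
      have h2 : q ^ d = q ^ 1 := by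
        rw [pow_one]; exact_mod_cast (by linarith : (q : ℤ) ^ d = q)
      exact Nat.pow_right_injective (by omega : 2 ≤ q) h2
    · rw [h1] at hg
      have : (q : ℤ) ^ d ≥ 1 := one_le_pow₀ (by exact_mod_cast (by omega : 1 ≤ q))
      have : (3 : ℤ) ≤ q := by exact_mod_cast hq3
      linarith

universe u v

variable {G : Type u} [Group G] [Finite G] {V : Type v} [AddCommGroup V] [Finite V]
  {q : ℕ} [Fact q.Prime] [Module (ZMod q) V] [DistribMulAction G V] [SMulCommClass G (ZMod q) V]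
  [FaithfulSMul G V]

theorem two_ne (hq2 : q ≠ 2) : (2 : ZMod q) ≠ 0 := by
  intro h
  have h' : ((2 : ℕ) : ZMod q) = 0 := by exact_mod_cast h
  rw [ZMod.natCast_eq_zero_iff] at h'
  exact hq2 ((Nat.prime_dvd_prime_iff_eq Fact.out Nat.prime_two).1 h')

theorem eq_zero_of_add_self (hq2 : q ≠ 2) {x : V} (h : x + x = 0) : x = 0 := by
  rw [← two_smul (ZMod q) x] at h
  exact (smul_eq_zero.1 h).resolve_left (two_ne hq2)

theorem eq_zero_of_neg_eq (hq2 : q ≠ 2) {x : V} (h : -x = x) : x = 0 :=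
  eq_zero_of_add_self hq2 (by nth_rw 1 [← h]; exact neg_add_cancel x)

variable (q) in
/-- The fixed points of an element. -/
def fixSpace (a : G) : Submodule (ZMod q) V where
  carrier := {x | a • x = x}
  add_mem' := fun {x y} (hx : a • x = x) (hy : a • y = y) => show a • (x + y) = x + y by rw [smul_add, hx, hy]
  zero_mem' := smul_zero a
  smul_mem' := fun c x (hx : a • x = x) => show a • (c • x) = c • x by rw [smul_comm, hx]

variable (q) in
/-- The negated points of an element. -/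
def negSpace (a : G) : Submodule (ZMod q) V where
  carrier := {x | a • x = -x}
  add_mem' := fun {x y} (hx : a • x = -x) (hy : a • y = -y) =>
    show a • (x + y) = -(x + y) by rw [smul_add, hx, hy, neg_add]
  zero_mem' := show a • (0 : V) = -0 by rw [smul_zero, neg_zero]
  smul_mem' := fun c x (hx : a • x = -x) => show a • (c • x) = -(c • x) by rw [smul_comm, hx, smul_neg]

/-- An involution splits the space into its fixed and its negated points. -/
theorem split (hq2 : q ≠ 2) {a : G} (ha : a * a = 1) (v : V) :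
    ∃ x ∈ fixSpace q (V := V) a, ∃ y ∈ negSpace q (V := V) a, v = x + y := by
  have h2 : ∀ w : V, a • a • w = w := fun w => by rw [← mul_smul, ha, one_smul]
  refine ⟨(2 : ZMod q)⁻¹ • (v + a • v), ?_, (2 : ZMod q)⁻¹ • (v - a • v), ?_, ?_⟩
  · refine Submodule.smul_mem _ _ (?_ : a • (v + a • v) = v + a • v)
    rw [smul_add, h2, add_comm]
  · refine Submodule.smul_mem _ _ (?_ : a • (v - a • v) = -(v - a • v))
    rw [smul_sub, h2, neg_sub]
  · rw [← smul_add, show v + a • v + (v - a • v) = (2 : ZMod q) • v by rw [two_smul]; abel, smul_smul,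
      inv_mul_cancel₀ (two_ne hq2), one_smul]

theorem eq_zero_of_fix_neg (hq2 : q ≠ 2) {a : G} {x : V} (hx : a • x = x) (hy : a • x = -x) : x = 0 :=
  eq_zero_of_neg_eq hq2 (hy.symm.trans hx)

theorem card_split (hq2 : q ≠ 2) {a : G} (ha : a * a = 1) :
    Nat.card (fixSpace q (V := V) a) * Nat.card (negSpace q (V := V) a) = Nat.card V := by
  rw [← Nat.card_prod]
  refine Nat.card_congr (Equiv.ofBijective (fun z => (z.1 : V) + z.2) ⟨?_, fun v => ?_⟩)
  · rintro ⟨⟨x, hx⟩, y, hy⟩ ⟨⟨x', hx'⟩, y', hy'⟩ h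
    change x + y = x' + y' at h
    have hd : x - x' = y' - y := by rw [sub_eq_sub_iff_add_eq_add, h, add_comm]
    have h0 : x - x' = 0 := eq_zero_of_fix_neg hq2 ((fixSpace q a).sub_mem hx hx')
      (hd ▸ (negSpace q a).sub_mem hy' hy)
    obtain rfl := sub_eq_zero.1 h0
    obtain rfl := add_left_cancel h
    rfl
  · obtain ⟨x, hx, y, hy, rfl⟩ := split hq2 ha v
    exact ⟨(⟨x, hx⟩, ⟨y, hy⟩), rfl⟩

variable (hconst : ∀ a b : V, a ≠ 0 → b ≠ 0 → Nat.card (stabilizer G a) = Nat.card (stabilizer G b))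
  (hq2 : q ≠ 2)

include hconst hq2

/-- A central involution acts as `-1`. -/
theorem central_neg {t : G} (hc : ∀ g : G, Commute g t) (ht : t * t = 1) (ht1 : t ≠ 1) (v : V) :
    t • v = -v := by
  obtain ⟨x, hx, y, hy, rfl⟩ := split hq2 ht v
  have hx' : t • x = x := hx
  have hy' : t • y = -y := hy
  suffices hx0 : x = 0 by rw [hx0, zero_add, hy']
  by_contra hx0
  obtain ⟨v, hv⟩ : ∃ v : V, t • v ≠ v := by
    by_contra hcon
    push Not at hcon
    exact ht1 (eq_of_smul_eq_smul fun e => (hcon e).trans (one_smul G e).symm)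
  set w := v - t • v with hwdef
  have hw0 : w ≠ 0 := fun h => hv (sub_eq_zero.1 h).symm
  have hwt : t • w = -w := by rw [hwdef, smul_sub, ← mul_smul, ht, one_smul, neg_sub]
  have hne : x + w ≠ 0 := fun h => hx0 (eq_zero_of_fix_neg hq2 hx'
    (by rw [eq_neg_of_add_eq_zero_left h, smul_neg, hwt]))
  have hle : stabilizer G (x + w) ≤ stabilizer G x ⊓ stabilizer G w := by
    intro g hg
    have hg' : g • x + g • w = x + w := by rw [← smul_add]; exact hg
    have h2 : g • x - g • w = x - w := by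
      have := congrArg (t • ·) hg'
      simp only [smul_add, ← mul_smul, ← (hc g).eq] at this
      rw [mul_smul, mul_smul, hx', hwt, smul_neg, ← sub_eq_add_neg, ← sub_eq_add_neg] at this
      exact this
    have h3 : g • x = x := sub_eq_zero.1 (eq_zero_of_add_self hq2 (by
      rw [show g • x - x + (g • x - x) = (g • x + g • w) + (g • x - g • w) - x - x by abel, hg', h2]; abel))
    rw [h3] at hg'
    exact ⟨h3, add_left_cancel hg'⟩
  have h1 := Subgroup.eq_of_le_of_card_ge (hle.trans inf_le_left) (hconst x _ hx0 hne).le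
  have h2 := Subgroup.eq_of_le_of_card_ge (hle.trans inf_le_right) (hconst w _ hw0 hne).le
  have htw : t ∈ stabilizer G w := by rw [← h2, h1]; exact hx'
  exact hw0 (eq_zero_of_fix_neg hq2 htw hwt)

/-- The case of a normal four-group. -/
theorem four_case [Nontrivial V] (hG : IsPGroup 2 G) {t a : G} (hc : ∀ g : G, Commute g t) (ht : t * t = 1)
    (ht1 : t ≠ 1) (ha : a * a = 1) (ha1 : a ≠ 1) (hat : a ≠ t)
    (hconj : ∀ g : G, g * a * g⁻¹ = a ∨ g * a * g⁻¹ = a * t) :
    (Nat.card V = 81 ∧ q = 3) ∨ (Nat.card V = q ^ 2 ∧ (∃ m : ℕ, q = 2 ^ m + 1) ∧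
      ∃ e : V ≃ₗ[ZMod q] (Fin 2 → ZMod q),
        (∀ g : G, ∃ b s : ZMod q, b ≠ 0 ∧ (s = 1 ∨ s = -1) ∧
          ((∀ u, e (g • e.symm u) = ![b * u 0, s * b⁻¹ * u 1]) ∨
            (∀ u, e (g • e.symm u) = ![s * b⁻¹ * u 1, b * u 0]))) ∧
        (∀ b s : ZMod q, b ≠ 0 → (s = 1 ∨ s = -1) →
          (∃ g : G, ∀ u, e (g • e.symm u) = ![b * u 0, s * b⁻¹ * u 1]) ∧
          (∃ g : G, ∀ u, e (g • e.symm u) = ![s * b⁻¹ * u 1, b * u 0]))) := by
  have htneg : ∀ v : V, t • v = -v := central_neg hconst hq2 hc ht ht1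
  obtain ⟨g0, hg0⟩ : ∃ g0 : G, g0 * a * g0⁻¹ = a * t := by
    by_contra hcon
    push Not at hcon
    have hca : ∀ g : G, Commute g a := fun g => mul_inv_eq_iff_eq_mul.1 ((hconj g).resolve_right (hcon g))
    exact hat (eq_of_smul_eq_smul fun v : V => by rw [central_neg hconst hq2 hca ha ha1 v, htneg])
  set C1 := fixSpace q (V := V) a with hC1
  set C2 := negSpace q (V := V) a with hC2
  have hdisj : ∀ x : V, x ∈ C1 → x ∈ C2 → x = 0 := fun x h1 h2 => eq_zero_of_fix_neg hq2 h1 h2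
  -- how an element acts on the two spaces
  have hQ : ∀ g : G, g * a * g⁻¹ = a → (∀ x ∈ C1, g • x ∈ C1) ∧ ∀ x ∈ C2, g • x ∈ C2 := by
    intro g hg
    have hga : g * a = a * g := mul_inv_eq_iff_eq_mul.1 hg
    refine ⟨fun x hx => ?_, fun x hx => ?_⟩
    · show a • g • x = g • x
      rw [← mul_smul, ← hga, mul_smul, show a • x = x from hx]
    · show a • g • x = -(g • x)
      rw [← mul_smul, ← hga, mul_smul, show a • x = -x from hx, smul_neg]
  have hS : ∀ g : G, g * a * g⁻¹ = a * t → (∀ x ∈ C1, g • x ∈ C2) ∧ ∀ x ∈ C2, g • x ∈ C1 := by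
    intro g hg
    have hga : a * g = g * a * t := by
      have h1 : g * a = a * g * t := by
        rw [mul_inv_eq_iff_eq_mul] at hg
        rw [hg, mul_assoc, mul_assoc, (hc g).eq]
      rw [h1, mul_assoc, ht, mul_one]
    refine ⟨fun x hx => ?_, fun x hx => ?_⟩
    · show a • g • x = -(g • x)
      rw [← mul_smul, hga, mul_smul, htneg, smul_neg, mul_smul, show a • x = x from hx]
    · show a • g • x = g • x
      rw [← mul_smul, hga, mul_smul, htneg, smul_neg, mul_smul, show a • x = -x from hx, smul_neg, neg_neg]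
  obtain ⟨v, hv⟩ : ∃ v : V, a • v ≠ -v := by
    by_contra hcon
    push Not at hcon
    exact hat (eq_of_smul_eq_smul fun v : V => by rw [hcon v, htneg])
  obtain ⟨x0, hx0C, hx00⟩ : ∃ x ∈ C1, x ≠ 0 := by
    refine ⟨v + a • v, ?_, fun h => hv (eq_neg_of_add_eq_zero_right h)⟩
    show a • (v + a • v) = v + a • v
    rw [smul_add, ← mul_smul, ha, one_smul, add_comm]
  have hy0C : g0 • x0 ∈ C2 := (hS g0 hg0).1 x0 hx0C
  have hy00 : g0 • x0 ≠ 0 := fun h => hx00 (by rwa [smul_eq_zero_iff_eq] at h)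
  -- stabiliser of a sum
  have hsum : ∀ x ∈ C1, ∀ y ∈ C2, x ≠ 0 → y ≠ 0 → ∀ g ∈ stabilizer G (x + y),
      (g * a * g⁻¹ = a ∧ g • x = x ∧ g • y = y) ∨ (g * a * g⁻¹ = a * t ∧ g • x = y ∧ g • y = x) := by
    intro x hx y hy hx0 hy0 g hg
    have hg' : g • x + g • y = x + y := by rw [← smul_add]; exact hg
    rcases hconj g with h | h
    · have h1 : g • x - x = 0 := hdisj _ (C1.sub_mem ((hQ g h).1 x hx) hx) (by
        rw [show g • x - x = y - g • y by rw [sub_eq_sub_iff_add_eq_add, hg', add_comm]]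
        exact C2.sub_mem hy ((hQ g h).2 y hy))
      have h1' := sub_eq_zero.1 h1
      rw [h1'] at hg'
      exact Or.inl ⟨h, h1', add_left_cancel hg'⟩
    · have h1 : g • x - y = 0 := hdisj _ (by
        rw [show g • x - y = x - g • y by rw [sub_eq_sub_iff_add_eq_add, hg']]
        exact C1.sub_mem hx ((hS g h).2 y hy)) (C2.sub_mem ((hS g h).1 x hx) hy)
      have h1' := sub_eq_zero.1 h1
      rw [h1', add_comm x y] at hg'
      exact Or.inr ⟨h, h1', add_left_cancel hg'⟩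
  have hsum0 : ∀ x ∈ C1, ∀ y ∈ C2, x ≠ 0 → x + y ≠ 0 := fun x hx y hy hx0 h =>
    hx0 (hdisj x hx (by rw [eq_neg_of_add_eq_zero_left h]; exact C2.neg_mem hy))
  have hswap : ∀ x ∈ C1, ∀ y ∈ C2, x ≠ 0 → y ≠ 0 → ∃ g : G, g * a * g⁻¹ = a * t ∧ g • x = y ∧ g • y = x := by
    intro x hx y hy hx0 hy0
    by_contra hcon
    have hle : stabilizer G (x + y) ≤ stabilizer G x ⊓ stabilizer G y := fun g hg => by
      rcases hsum x hx y hy hx0 hy0 g hg with ⟨-, h1, h2⟩ | h
      · exact ⟨h1, h2⟩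
      · exact absurd ⟨g, h⟩ hcon
    have h1 := Subgroup.eq_of_le_of_card_ge (hle.trans inf_le_left) (hconst x _ hx0 (hsum0 x hx y hy hx0)).le
    have hax : a ∈ stabilizer G x := hx
    have hay : a ∈ stabilizer G y := (hle.trans inf_le_right) (h1 ▸ hax)
    exact hy0 (eq_zero_of_fix_neg hq2 hay hy)
  -- transitivity on each of the spaces
  let Q : Subgroup G := Subgroup.centralizer {a}
  have hQmem : ∀ g : G, g ∈ Q ↔ g * a * g⁻¹ = a := fun g => by
    rw [Subgroup.mem_centralizer_singleton_iff, mul_inv_eq_iff_eq_mul]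
  have horb : orbit Q x0 = ((C1 : Set V) \ {0}) := by
    ext x
    constructor
    · rintro ⟨⟨g, hg⟩, rfl⟩
      exact ⟨(hQ g ((hQmem g).1 hg)).1 x0 hx0C, fun h => hx00 (by
        have h' : g • x0 = 0 := h
        rwa [smul_eq_zero_iff_eq] at h')⟩
    · rintro ⟨hx, hxne⟩
      obtain ⟨g, hg, hgx, -⟩ := hswap x0 hx0C _ hy0C hx00 hy00
      obtain ⟨k, hk, hkx, -⟩ := hswap x hx _ hy0C hxne hy00
      refine ⟨⟨k⁻¹ * g, (hQmem _).2 ?_⟩, ?_⟩
      · rw [show k⁻¹ * g * a * (k⁻¹ * g)⁻¹ = k⁻¹ * (g * a * g⁻¹) * k by group, hg, ← hk]; group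
      · show (k⁻¹ * g) • x0 = x
        rw [mul_smul, hgx, inv_smul_eq_iff, hkx]
  haveI : Fact (Nat.Prime 2) := ⟨Nat.prime_two⟩
  obtain ⟨k, hk⟩ := (hG.to_subgroup Q).card_orbit x0
  have hC1card : Nat.card C1 - 1 = 2 ^ k := by
    rw [← hk, horb, Nat.card_coe_set_eq, Set.ncard_sdiff_singleton_of_mem C1.zero_mem]
    rfl
  set d := Module.finrank (ZMod q) C1 with hd
  have hC1q : Nat.card C1 = q ^ d := by rw [Module.natCard_eq_pow_finrank (K := ZMod q), Nat.card_zmod]
  have hC2q : Nat.card C2 = q ^ d := by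
    rw [← hC1q]
    refine le_antisymm ?_ ?_
    · exact Nat.card_le_card_of_injective (fun y : C2 => (⟨g0 • (y : V), (hS g0 hg0).2 y y.2⟩ : C1))
        fun y z h => Subtype.ext (smul_left_cancel g0 (congrArg Subtype.val h))
    · exact Nat.card_le_card_of_injective (fun y : C1 => (⟨g0 • (y : V), (hS g0 hg0).1 y y.2⟩ : C2))
        fun y z h => Subtype.ext (smul_left_cancel g0 (congrArg Subtype.val h))
  have hVq : Nat.card V = q ^ d * q ^ d := by rw [← card_split (q := q) hq2 ha, ← hC1, ← hC2, hC1q, hC2q]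
  have hqprime : q.Prime := Fact.out
  have hq3 : 3 ≤ q := by have := hqprime.two_le; omega
  rcases pow_sub_one_two_pow (hqprime.odd_of_ne_two hq2) hq3 (hC1q ▸ hC1card) with hd1 | ⟨h3, hd2⟩
  swap
  · left
    subst h3
    exact ⟨by rw [hVq, hd2]; norm_num, rfl⟩
  right
  rw [hd1, pow_one] at hC1q hC2q
  rw [hd1, pow_one, ← pow_two] at hVq
  refine ⟨hVq, ⟨k, ?_⟩, ?_⟩
  · rw [hC1q] at hC1card
    omega
  -- coordinates
  obtain ⟨w1, hw1, hw1x, hw1y⟩ := hswap x0 hx0C _ hy0C hx00 hy00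
  set y0 := g0 • x0 with hy0
  let L : (Fin 2 → ZMod q) →ₗ[ZMod q] V :=
    (LinearMap.proj 0).smulRight x0 + (LinearMap.proj 1).smulRight y0
  have hL : ∀ u, L u = u 0 • x0 + u 1 • y0 := fun u => rfl
  have hLinj : Function.Injective L := by
    rw [← LinearMap.ker_eq_bot, LinearMap.ker_eq_bot']
    intro u hu
    rw [hL] at hu
    have h0 : u 0 • x0 = 0 := hdisj _ (C1.smul_mem _ hx0C) (by
      rw [eq_neg_of_add_eq_zero_left hu]; exact C2.neg_mem (C2.smul_mem _ hy0C))
    rw [h0, zero_add] at hu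
    funext i
    fin_cases i
    · exact (smul_eq_zero.1 h0).resolve_right hx00
    · exact (smul_eq_zero.1 hu).resolve_right hy00
  haveI : Fintype V := Fintype.ofFinite V
  have hLbij : Function.Bijective L := (Fintype.bijective_iff_injective_and_card L).2 ⟨hLinj, by
    rw [Fintype.card_fun, Fintype.card_fin, ZMod.card, ← Nat.card_eq_fintype_card, hVq]⟩
  let e := (LinearEquiv.ofBijective L hLbij).symm
  have hes : ∀ u, e.symm u = u 0 • x0 + u 1 • y0 := fun u => rfl
  have hcoord : ∀ (g : G) (c c' : ZMod q), g • x0 = c • x0 → g • y0 = c' • y0 →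
      ∀ u, e (g • e.symm u) = ![c * u 0, c' * u 1] := by
    intro g c c' h1 h2 u
    rw [← LinearEquiv.eq_symm_apply, hes, hes, smul_add, smul_comm, smul_comm g (u 1), h1, h2]
    simp [smul_smul, mul_comm]
  have hcoord' : ∀ (g : G) (c c' : ZMod q), g • x0 = c • y0 → g • y0 = c' • x0 →
      ∀ u, e (g • e.symm u) = ![c' * u 1, c * u 0] := by
    intro g c c' h1 h2 u
    rw [← LinearEquiv.eq_symm_apply, hes, hes, smul_add, smul_comm, smul_comm g (u 1), h1, h2]
    simp [smul_smul, mul_comm, add_comm]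
  -- diagonal elements
  have hh : ∀ b : ZMod q, b ≠ 0 → ∃ g : G, g • x0 = b • x0 ∧ g • y0 = b⁻¹ • y0 := by
    intro b hb
    obtain ⟨w, -, hwx, hwy⟩ := hswap x0 hx0C (b • y0) (C2.smul_mem _ hy0C) hx00 (smul_ne_zero hb hy00)
    refine ⟨w1 * w, by rw [mul_smul, hwx, smul_comm, hw1y], ?_⟩
    have : w • y0 = b⁻¹ • x0 := by rw [← hwy, smul_comm w b, inv_smul_smul₀ hb]
    rw [mul_smul, this, smul_comm, hw1x]
  have hax : a • x0 = x0 := hx0C
  have hay : a • y0 = -y0 := hy0C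
  have hreal : ∀ b s : ZMod q, b ≠ 0 → (s = 1 ∨ s = -1) →
      ∃ g : G, g • x0 = b • x0 ∧ g • y0 = (s * b⁻¹) • y0 := by
    intro b s hb hs
    obtain ⟨g, h1, h2⟩ := hh b hb
    rcases hs with rfl | rfl
    · exact ⟨g, h1, by rw [one_mul, h2]⟩
    · exact ⟨g * a, by rw [mul_smul, hax, h1], by rw [mul_smul, hay, smul_neg, h2, neg_one_mul, neg_smul]⟩
  -- scalars
  have hC1line : ∀ x ∈ C1, ∃ c : ZMod q, x = c • x0 := by
    intro x hx
    obtain ⟨c, hc'⟩ := exists_smul_eq_of_finrank_eq_one (K := ZMod q) (V := C1) hd1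
      (x := ⟨x0, hx0C⟩) (fun h => hx00 (congrArg Subtype.val h)) ⟨x, hx⟩
    exact ⟨c, (congrArg Subtype.val hc').symm⟩
  have hstabQ : ∀ g : G, g • x0 = x0 → g * a * g⁻¹ = a := fun g hg =>
    (hconj g).resolve_right fun h => hx00 (hdisj x0 hx0C (by
      have := (hS g h).1 x0 hx0C
      rwa [hg] at this))
  have hfix1 : ∀ g : G, g • x0 = x0 → ∀ x ∈ C1, g • x = x := fun g hg x hx => by
    obtain ⟨c, rfl⟩ := hC1line x hx
    rw [smul_comm, hg]
  have hfix2 : ∀ g : G, g • y0 = y0 → ∀ x ∈ C2, g • x = x := fun g hg x hx => by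
    obtain ⟨c, hc'⟩ := hC1line (w1 • x) ((hS w1 hw1).2 x hx)
    have hxe : x = c • y0 := smul_left_cancel w1 (by rw [hc', smul_comm w1 c, hw1y])
    rw [hxe, smul_comm, hg]
  have hdet : ∀ g h : G, g • x0 = h • x0 → g • y0 = h • y0 → g = h := by
    intro g h h1 h2
    have k1 : (h⁻¹ * g) • x0 = x0 := by rw [mul_smul, h1, inv_smul_smul]
    have k2 : (h⁻¹ * g) • y0 = y0 := by rw [mul_smul, h2, inv_smul_smul]
    have : h⁻¹ * g = 1 := eq_of_smul_eq_smul fun v : V => by
      obtain ⟨x, hx, y, hy, rfl⟩ := split hq2 ha v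
      rw [one_smul, smul_add, hfix1 _ k1 x hx, hfix2 _ k2 y hy]
    exact (inv_mul_eq_one.1 this).symm
  have hs2 : ∀ g : G, g • x0 = x0 → g = 1 ∨ g = a := by
    intro g hg
    have hle : Nat.card (stabilizer G (x0 + y0)) ≤ 2 := by
      by_contra h3
      haveI : Fintype ↥(stabilizer G (x0 + y0)) := Fintype.ofFinite _
      rw [not_le, Nat.card_eq_fintype_card, Fintype.two_lt_card_iff] at h3
      obtain ⟨⟨p, hp⟩, ⟨r, hr⟩, ⟨w, hw⟩, hpr, hpw, hrw⟩ := h3
      have key : ∀ p ∈ stabilizer G (x0 + y0), p = 1 ∨ p = w1 := fun p hp => by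
        rcases hsum x0 hx0C y0 hy0C hx00 hy00 p hp with ⟨-, h1, h2⟩ | ⟨-, h1, h2⟩
        · exact Or.inl (hdet p 1 (by rw [h1, one_smul]) (by rw [h2, one_smul]))
        · exact Or.inr (hdet p w1 (h1.trans hw1x.symm) (h2.trans hw1y.symm))
      rw [ne_eq, Subtype.mk.injEq] at hpr hpw hrw
      rcases key p hp with rfl | rfl <;> rcases key r hr with rfl | rfl <;> rcases key w hw with rfl | rfl <;>
        simp at hpr hpw hrw
    rw [hconst _ x0 (hsum0 x0 hx0C y0 hy0C hx00) hx00] at hle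
    by_contra hcon
    push Not at hcon
    haveI : Fintype ↥(stabilizer G x0) := Fintype.ofFinite _
    rw [Nat.card_eq_fintype_card] at hle
    refine absurd (Fintype.two_lt_card_iff.2 ⟨⟨1, one_mem _⟩, ⟨a, hax⟩, ⟨g, hg⟩, ?_, ?_, ?_⟩) (not_lt.2 hle)
    · exact fun h => ha1 (congrArg Subtype.val h).symm
    · exact fun h => hcon.1 (congrArg Subtype.val h).symm
    · exact fun h => hcon.2 (congrArg Subtype.val h).symm
  have hdiag : ∀ g : G, g * a * g⁻¹ = a →
      ∃ b s : ZMod q, b ≠ 0 ∧ (s = 1 ∨ s = -1) ∧ g • x0 = b • x0 ∧ g • y0 = (s * b⁻¹) • y0 := by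
    intro g hg
    obtain ⟨b, hb⟩ := hC1line _ ((hQ g hg).1 x0 hx0C)
    have hb0 : b ≠ 0 := fun h => hx00 (by
      rw [h, zero_smul, smul_eq_zero_iff_eq] at hb; exact hb)
    obtain ⟨k, hk1, hk2⟩ := hh b hb0
    rcases hs2 (k⁻¹ * g) (by rw [mul_smul, hb, ← hk1, inv_smul_smul]) with h | h
    · obtain rfl := inv_mul_eq_one.1 h
      exact ⟨b, 1, hb0, Or.inl rfl, hk1, by rw [one_mul, hk2]⟩
    · have hgk : g = k * a := inv_mul_eq_iff_eq_mul.1 h
      exact ⟨b, -1, hb0, Or.inr rfl, hb, by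
        rw [hgk, mul_smul, hay, smul_neg, hk2, neg_one_mul, neg_smul]⟩
  refine ⟨e, fun g => ?_, fun b s hb hs => ?_⟩
  · rcases hconj g with hg | hg
    · obtain ⟨b, s, hb, hs, h1, h2⟩ := hdiag g hg
      exact ⟨b, s, hb, hs, Or.inl (hcoord g b _ h1 h2)⟩
    · have hwg : (w1 * g) * a * (w1 * g)⁻¹ = a := by
        rw [show (w1 * g) * a * (w1 * g)⁻¹ = w1 * (g * a * g⁻¹) * w1⁻¹ by group, hg,
          show w1 * (a * t) * w1⁻¹ = w1 * a * w1⁻¹ * (w1 * t * w1⁻¹) by group, hw1, (hc w1).eq,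
          mul_inv_cancel_right, mul_assoc, ht, mul_one]
      obtain ⟨b, s, hb, hs, h1, h2⟩ := hdiag (w1 * g) hwg
      rw [mul_smul] at h1 h2
      refine ⟨b, s, hb, hs, Or.inr (hcoord' g b _ (smul_left_cancel w1 ?_) (smul_left_cancel w1 ?_))⟩
      · rw [h1, smul_comm w1 b, hw1y]
      · rw [h2, smul_comm w1 (s * b⁻¹), hw1x]
  · obtain ⟨g, h1, h2⟩ := hreal b s hb hs
    exact ⟨⟨g, hcoord g b _ h1 h2⟩, ⟨w1 * g, hcoord' _ b _ (by rw [mul_smul, h1, smul_comm, hw1x])
      (by rw [mul_smul, h2, smul_comm, hw1y])⟩⟩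

/-- Counting the non-zero vectors by the involutions fixing them. -/
theorem count_case [Nontrivial V] {z : G} (hzc : ∀ g : G, Commute g z) (hz : z * z = 1) (hz1 : z ≠ 1)
    {ι : Type*} [Fintype ι] [Nonempty ι] (w : ι → G) (hw : Function.Injective w)
    (hww : ∀ i, w i * w i = 1) (hw1 : ∀ i, w i ≠ 1) (hwz : ∀ i, w i ≠ z)
    (hconj : ∀ i, ∃ g : G, g * w i * g⁻¹ = w i * z)
    (hcover : ∀ g : G, g ≠ 1 → z ∉ Subgroup.zpowers g → ∃ i, w i = g)
    (hprod : ∀ i j k, w i * w j ≠ w k) :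
    ∃ d : ℕ, d ≠ 0 ∧ Nat.card V = q ^ d * q ^ d ∧ Fintype.card ι = q ^ d + 1 := by
  have hzneg : ∀ v : V, z • v = -v := central_neg hconst hq2 hzc hz hz1
  have hcov : ∀ (g : G) (v : V), v ≠ 0 → g ≠ 1 → g • v = v → ∃ i, w i = g := fun g v hv hg hgv =>
    hcover g hg fun hz' => hv (eq_zero_of_neg_eq hq2 ((hzneg v).symm.trans
      ((Subgroup.zpowers_le.2 (show g ∈ stabilizer G v from hgv)) hz')))
  have huniq : ∀ (v : V), v ≠ 0 → ∀ i j, w i • v = v → w j • v = v → i = j := by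
    intro v hv i j hi hj
    by_contra hne
    obtain ⟨k, hk⟩ := hcov (w i * w j) v hv (fun h => hne (hw (by
      rw [← mul_one (w i), ← hww j, ← mul_assoc, h, one_mul]))) (by rw [mul_smul, hj, hi])
    exact hprod i j k hk.symm
  have hfix0 : ∀ i, ∃ v : V, v ≠ 0 ∧ w i • v = v := by
    intro i
    by_contra hcon
    push Not at hcon
    refine hwz i (eq_of_smul_eq_smul fun v : V => ?_)
    rw [hzneg]
    obtain ⟨x, hx, y, hy, rfl⟩ := split (q := q) hq2 (hww i) v
    have hx0 : x = 0 := by_contra fun h => hcon x h hx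
    rw [hx0, zero_add]
    exact hy
  have hex : ∀ v : V, v ≠ 0 → ∃ i, w i • v = v := by
    intro v hv
    obtain ⟨u, hu0, hu⟩ := hfix0 (Classical.arbitrary ι)
    by_contra hcon
    push Not at hcon
    have hbot : stabilizer G v = ⊥ := (Subgroup.eq_bot_iff_forall _).2 fun g hg => by
      by_contra hg1
      obtain ⟨i, rfl⟩ := hcov g v hv hg1 hg
      exact hcon i hg
    have hc := hconst u v hu0 hv
    rw [hbot, Subgroup.card_bot] at hc
    exact hw1 _ (Subgroup.mem_bot.1 ((Subgroup.eq_bot_of_card_eq _ hc) ▸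
      (show w (Classical.arbitrary ι) ∈ stabilizer G u from hu)))
  have heq : ∀ i, Nat.card (fixSpace q (V := V) (w i)) = Nat.card (negSpace q (V := V) (w i)) := by
    intro i
    obtain ⟨g, hg⟩ := hconj i
    have hg' : ∀ x : V, w i • g • x = -(g • w i • x) := fun x => by
      have h1 : g * w i = w i * z * g := mul_inv_eq_iff_eq_mul.1 hg
      rw [← mul_smul g, h1, mul_smul, mul_smul, hzneg, smul_neg, neg_neg]
    refine le_antisymm ?_ ?_
    · refine Nat.card_le_card_of_injective (fun x : fixSpace q (V := V) (w i) =>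
        (⟨g • (x : V), ?_⟩ : negSpace q (V := V) (w i))) fun y x h => Subtype.ext
          (smul_left_cancel g (congrArg Subtype.val h))
      show w i • g • (x : V) = -(g • (x : V))
      rw [hg', show w i • (x : V) = x from x.2]
    · refine Nat.card_le_card_of_injective (fun x : negSpace q (V := V) (w i) =>
        (⟨g • (x : V), ?_⟩ : fixSpace q (V := V) (w i))) fun y x h => Subtype.ext
          (smul_left_cancel g (congrArg Subtype.val h))
      show w i • g • (x : V) = g • (x : V)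
      rw [hg', show w i • (x : V) = -x from x.2, smul_neg, neg_neg]
  set d := Module.finrank (ZMod q) (fixSpace q (V := V) (w (Classical.arbitrary ι))) with hd
  have hsq : ∀ i, Nat.card (fixSpace q (V := V) (w i)) * Nat.card (fixSpace q (V := V) (w i)) = Nat.card V :=
    fun i => by nth_rw 2 [heq i]; exact card_split hq2 (hww i)
  have hall : ∀ i, Nat.card (fixSpace q (V := V) (w i)) = q ^ d := fun i => by
    have h0 : Nat.card (fixSpace q (V := V) (w (Classical.arbitrary ι))) = q ^ d := by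
      rw [Module.natCard_eq_pow_finrank (K := ZMod q), Nat.card_zmod]
    have := (hsq i).trans (hsq (Classical.arbitrary ι)).symm
    rw [h0] at this
    exact Nat.mul_self_inj.1 this
  have hd0 : d ≠ 0 := fun h => by
    obtain ⟨v, hv, hfix⟩ := hfix0 (Classical.arbitrary ι)
    have h1 := hall (Classical.arbitrary ι)
    rw [h, pow_zero] at h1
    haveI := (Nat.card_eq_one_iff_unique.1 h1).1
    exact hv (congrArg Subtype.val (Subsingleton.elim
      (⟨v, hfix⟩ : fixSpace q (V := V) (w (Classical.arbitrary ι))) 0))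
  have hV : Nat.card V = q ^ d * q ^ d := by rw [← hsq (Classical.arbitrary ι), hall]
  refine ⟨d, hd0, hV, ?_⟩
  have hbij : Nat.card (Σ i : ι, {v : V // v ≠ 0 ∧ w i • v = v}) = Nat.card {v : V // v ≠ 0} := by
    refine Nat.card_congr (Equiv.ofBijective (fun z => ⟨z.2.1, z.2.2.1⟩) ⟨?_, fun v => ?_⟩)
    · rintro ⟨i, v, hv, hi⟩ ⟨j, u, hu, hj⟩ h
      obtain rfl : v = u := congrArg Subtype.val h
      obtain rfl := huniq v hv i j hi hj
      rfl
    · obtain ⟨i, hi⟩ := hex v v.2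
      exact ⟨⟨i, v, v.2, hi⟩, rfl⟩
  rw [Nat.card_sigma] at hbij
  have hone : ∀ i, Nat.card {v : V // v ≠ 0 ∧ w i • v = v} = q ^ d - 1 := fun i => by
    rw [← hall i, show {v : V // v ≠ 0 ∧ w i • v = v} = ↥((fixSpace q (V := V) (w i) : Set V) \ {0}) from
      congrArg Subtype (funext fun v => propext (and_comm.trans Iff.rfl)), Nat.card_coe_set_eq,
      Set.ncard_sdiff_singleton_of_mem (fixSpace q (V := V) (w i)).zero_mem]
    rfl
  rw [Finset.sum_congr rfl (fun i _ => hone i), Finset.sum_const, Finset.card_univ, smul_eq_mul,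
    show Nat.card {v : V // v ≠ 0} = Nat.card V - 1 by
      rw [show {v : V // v ≠ 0} = ↥((Set.univ : Set V) \ {0}) from
        congrArg Subtype (funext fun v => propext (by simp)), Nat.card_coe_set_eq,
        Set.ncard_sdiff_singleton_of_mem (Set.mem_univ _), Set.ncard_univ], hV] at hbij
  have hq : 2 ≤ q ^ d := le_trans (Fact.out : q.Prime).two_le (Nat.le_self_pow hd0 q)
  have h2 : (q ^ d + 1) * (q ^ d - 1) = q ^ d * q ^ d - 1 := by
    simpa [pow_two] using (Nat.sq_sub_sq (q ^ d) 1).symm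
  exact Nat.eq_of_mul_eq_mul_right (by omega) (hbij.trans h2.symm)

end Cfsg.Agent.HalfTransP
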