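import Cfsg.Agent.Lib.HalfTransP.Two
import Cfsg.Agent.Lib.TwoGroups.QuasiDihedral
import Cfsg.Agent.S0519
import Cfsg.Agent.S0016

/-!
# The 2-groups with stabilisers of constant order
-/

set_option autoImplicit false
set_option linter.style.haveILetI false
set_option linter.unusedSectionVars false

namespace Cfsg.Agent.HalfTransP

open MulAction
open scoped Classical

universe u v

/-- The only involution of a generalised quaternion group. -/
theorem quat_invol {n : ℕ} [NeZero n] {x : QuaternionGroup n} (h : x * x = 1) (h1 : x ≠ 1) :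
    x = QuaternionGroup.a n := by
  cases x with
  | a i =>
    rw [QuaternionGroup.a_mul_a, QuaternionGroup.one_def, QuaternionGroup.a.injEq] at h
    rcases (ZMod.neg_eq_self_iff i).1 (neg_eq_of_add_eq_zero_left h) with h2 | h2
    · exact absurd (by rw [h2]; exact QuaternionGroup.one_def.symm) h1
    · congr 1
      rw [← ZMod.natCast_zmod_val i]
      congr 1
      omega
  | xa i =>
    have h4 : orderOf (QuaternionGroup.xa i) ∣ 2 := orderOf_dvd_of_pow_eq_one (by rw [pow_two, h])
    rw [QuaternionGroup.orderOf_xa] at h4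
    omega

variable {G : Type u} [Group G] [Finite G] {V : Type v} [AddCommGroup V] [Finite V]
  {q : ℕ} [Fact q.Prime] [Module (ZMod q) V] [DistribMulAction G V] [SMulCommClass G (ZMod q) V]
  [FaithfulSMul G V]

theorem semiregular (hq2 : q ≠ 2) (hG : IsPGroup 2 G) {z : G} (hzneg : ∀ v : V, z • v = -v)
    (huniq : ∀ g : G, g * g = 1 → g = 1 ∨ g = z) {v : V} (hv : v ≠ 0) {g : G} (hg : g • v = v) : g = 1 := by
  by_contra hg1
  obtain ⟨k, hk⟩ := IsPGroup.iff_orderOf.mp hG g
  have hk0 : k ≠ 0 := fun h => hg1 (orderOf_eq_one_iff.1 (by rw [hk, h, pow_zero]))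
  have h2 : orderOf (g ^ 2 ^ (k - 1)) = 2 := by
    rw [orderOf_pow, hk, Nat.gcd_eq_right (pow_dvd_pow 2 (Nat.sub_le k 1)),
      Nat.pow_div (Nat.sub_le k 1) two_pos, show k - (k - 1) = 1 by omega, pow_one]
  rcases huniq (g ^ 2 ^ (k - 1)) (by
      rw [← pow_two]
      have := pow_orderOf_eq_one (g ^ 2 ^ (k - 1))
      rwa [h2] at this) with h | h
  · rw [h, orderOf_one] at h2; omega
  · have hmem : z ∈ stabilizer G v := h ▸ (stabilizer G v).pow_mem hg (2 ^ (k - 1))
    exact hv (eq_zero_of_neg_eq hq2 ((hzneg v).symm.trans hmem))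

theorem main_two [Nontrivial V] (hconst : ∀ a b : V, a ≠ 0 → b ≠ 0 →
      Nat.card (stabilizer G a) = Nat.card (stabilizer G b))
    (hq2 : q ≠ 2) (hG : IsPGroup 2 G) :
    ((IsCyclic G ∨ ∃ n : ℕ, Nonempty (G ≃* QuaternionGroup n)) ∧ ∀ v : V, v ≠ 0 → ∀ g : G, g • v = v → g = 1) ∨
    (Nat.card V = q ^ 2 ∧ ∃ m : ℕ, q = 2 ^ m - 1 ∧
      (Nonempty (G ≃* DihedralGroup (2 ^ m)) ∨ (Cfsg.IsQuasiDihedral G ∧ Nat.card G = 2 ^ (m + 2)))) ∨
    (Nat.card V = q ^ 2 ∧ (∃ m : ℕ, q = 2 ^ m + 1) ∧
      ∃ e : V ≃ₗ[ZMod q] (Fin 2 → ZMod q),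
        (∀ g : G, ∃ b s : ZMod q, b ≠ 0 ∧ (s = 1 ∨ s = -1) ∧
          ((∀ u, e (g • e.symm u) = ![b * u 0, s * b⁻¹ * u 1]) ∨
            (∀ u, e (g • e.symm u) = ![s * b⁻¹ * u 1, b * u 0]))) ∧
        (∀ b s : ZMod q, b ≠ 0 → (s = 1 ∨ s = -1) →
          (∃ g : G, ∀ u, e (g • e.symm u) = ![b * u 0, s * b⁻¹ * u 1]) ∧
          (∃ g : G, ∀ u, e (g • e.symm u) = ![s * b⁻¹ * u 1, b * u 0]))) ∨
    (Nat.card V = 81 ∧ q = 3) := by
  haveI : Fact (Nat.Prime 2) := ⟨Nat.prime_two⟩
  rcases subsingleton_or_nontrivial G with hs | hnt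
  · exact Or.inl ⟨Or.inl isCyclic_of_subsingleton, fun v _ g _ => Subsingleton.elim g 1⟩
  obtain ⟨z, -, hzo, hzc'⟩ := NormalFour.exists_central_mem hG (N := (⊤ : Subgroup G)) (top_ne_bot)
  have hzc : ∀ g : G, Commute g z := fun g => Subgroup.mem_center_iff.mp hzc' g
  have hz : z * z = 1 := by rw [← pow_two, ← hzo]; exact pow_orderOf_eq_one z
  have hz1 : z ≠ 1 := fun h => by rw [h, orderOf_one] at hzo; omega
  have hzneg : ∀ v : V, z • v = -v := central_neg hconst hq2 hzc hz hz1
  by_cases hn : ∀ A : Subgroup G, A.Normal → IsMulCommutative A → IsCyclic A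
  swap
  · -- a normal four-group
    push Not at hn
    obtain ⟨A, hAn, hAc, hAnc⟩ := hn
    haveI := hAn
    letI : CommGroup A := { (inferInstance : Group A) with mul_comm := hAc.is_comm.comm }
    set Ω := ((powMonoidHom 2 : A →* A).ker).map A.subtype with hΩ
    have hΩ2 : ∀ a ∈ Ω, a * a = 1 := by
      rintro _ ⟨a, ha, rfl⟩
      have : a ^ 2 = 1 := ha
      rw [pow_two] at this
      exact congrArg Subtype.val this
    haveI : Ω.Normal := ⟨by
      rintro _ ⟨a, ha, rfl⟩ g
      refine ⟨⟨g * a * g⁻¹, hAn.conj_mem _ a.2 g⟩, ?_, rfl⟩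
      show (⟨g * a * g⁻¹, _⟩ : A) ^ 2 = 1
      refine Subtype.ext ?_
      show (g * (a : G) * g⁻¹) ^ 2 = 1
      have : a ^ 2 = 1 := ha
      rw [conj_pow, show (a : G) ^ 2 = 1 from congrArg Subtype.val this, mul_one, mul_inv_cancel]⟩
    obtain ⟨k, hk⟩ := IsPGroup.iff_card.1 ((hG.to_subgroup A).to_subgroup (powMonoidHom 2 : A →* A).ker)
    have h4 : 4 ≤ Nat.card (powMonoidHom 2 : A →* A).ker := by
      rw [hk]
      by_contra hlt
      refine hAnc (NormalFour.isCyclic_of_sqrt_le_two (hG.to_subgroup A) ?_)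
      rw [hk]
      rcases k with _ | _ | k
      · norm_num
      · norm_num
      · exact absurd (Nat.pow_le_pow_right two_pos (by omega : 2 ≤ k + 2)) hlt
    obtain ⟨W, hWn, hWle, hW⟩ := NormalFour.exists_normal_four_le hG (N := Ω) hΩ2
      (by rwa [hΩ, ← Nat.card_congr (Subgroup.equivMapOfInjective _ _ A.subtype_injective).toEquiv])
    haveI := hWn
    obtain ⟨t, htW, hto, htc'⟩ := NormalFour.exists_central_mem hG (N := W)
      (fun h => by rw [h, Subgroup.card_bot] at hW; omega)
    have htc : ∀ g : G, Commute g t := fun g => Subgroup.mem_center_iff.mp htc' g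
    have ht : t * t = 1 := hΩ2 t (hWle htW)
    have ht1 : t ≠ 1 := fun h => by rw [h, orderOf_one] at hto; omega
    haveI : Fintype W := Fintype.ofFinite W
    obtain ⟨a, haW, ha1, hat⟩ : ∃ a ∈ W, a ≠ 1 ∧ a ≠ t := by
      by_contra hcon
      push Not at hcon
      have hsub : (W : Set G) ⊆ {1, t} := fun a ha => by
        by_cases h1 : a = 1
        · exact Or.inl h1
        · exact Or.inr (hcon a ha h1)
      have := Set.ncard_le_ncard hsub
      rw [← Nat.card_coe_set_eq, SetLike.coe_sort_coe, hW, Set.ncard_pair ht1.symm] at this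
      omega
    have ha : a * a = 1 := hΩ2 a (hWle haW)
    have hconj : ∀ g : G, g * a * g⁻¹ = a ∨ g * a * g⁻¹ = a * t := by
      intro g
      by_contra hcon
      push Not at hcon
      set c := g * a * g⁻¹ with hc
      have hcW : c ∈ W := hWn.conj_mem a haW g
      have hc1 : c ≠ 1 := fun h => ha1 (conj_eq_one_iff.1 h)
      have hct : c ≠ t := fun h => hat (by
        have : a = g⁻¹ * c * g := by rw [hc]; group
        rw [this, h, mul_assoc, ← (htc g).eq, inv_mul_cancel_left])
      have hat' : a * t ≠ 1 := fun h => hat (by rw [eq_inv_of_mul_eq_one_left h, inv_eq_of_mul_eq_one_right ht])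
      have hS : Set.ncard ({1, t, a, a * t, c} : Set G) = 5 := by
        rw [Set.ncard_insert_of_notMem, Set.ncard_insert_of_notMem, Set.ncard_insert_of_notMem,
          Set.ncard_pair hcon.2.symm] <;>
          simp only [Set.mem_insert_iff, Set.mem_singleton_iff, not_or]
        · exact ⟨fun h => ht1 (by simpa using h.symm), hcon.1.symm⟩
        · exact ⟨hat.symm, fun h => ha1 (by simpa using h.symm), hct.symm⟩
        · exact ⟨ht1.symm, ha1.symm, hat'.symm, hc1.symm⟩
      have hsub : ({1, t, a, a * t, c} : Set G) ⊆ W := by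
        rintro x (rfl | rfl | rfl | rfl | rfl)
        exacts [one_mem W, htW, haW, mul_mem haW htW, hcW]
      have := Set.ncard_le_ncard hsub
      rw [hS, ← Nat.card_coe_set_eq, SetLike.coe_sort_coe, hW] at this
      omega
    rcases four_case hconst hq2 hG htc ht ht1 ha ha1 hat hconj with h | h
    · exact Or.inr (Or.inr (Or.inr h))
    · exact Or.inr (Or.inr (Or.inl h))
  -- no normal four-group
  by_cases huni : ∀ g : G, g * g = 1 → g = 1 ∨ g = z
  · refine Or.inl ⟨?_, fun v hv g hg => semiregular hq2 hG hzneg huni hv hg⟩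
    have : ∀ H K : Subgroup G, Nat.card H = 2 → Nat.card K = 2 → H = K := by
      have key : ∀ H : Subgroup G, Nat.card H = 2 → H = Subgroup.zpowers z := fun H hH => by
        haveI : Finite H := inferInstance
        obtain ⟨x, hx⟩ := exists_prime_orderOf_dvd_card' (G := H) 2 (hH ▸ dvd_rfl)
        have hx2 : (x : G) * x = 1 := by
          rw [← pow_two, ← hx, ← Subgroup.orderOf_coe]; exact pow_orderOf_eq_one _
        rcases huni _ hx2 with h | h
        · rw [← Subgroup.orderOf_coe, h, orderOf_one] at hx; omega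
        · refine (Subgroup.eq_of_le_of_card_ge (Subgroup.zpowers_le.2 (h ▸ x.2)) ?_).symm
          rw [Nat.card_zpowers, hzo, hH]
      exact fun H K hH hK => (key H hH).trans (key K hK).symm
    rcases Cfsg.Agent.S0016.result 2 hG this with h | ⟨-, n, hn⟩
    · exact Or.inl h
    · exact Or.inr ⟨2 ^ n, hn⟩
  push Not at huni
  obtain ⟨w0, hw0, hw01, hw0z⟩ := huni
  have hB : ∃ B : Subgroup G, IsMulCommutative B ∧ ¬ IsCyclic B := by
    refine ⟨Subgroup.closure {z, w0}, Subgroup.isMulCommutative_closure ?_, fun hcyc => hw0z ?_⟩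
    · rintro x (rfl | rfl) y (rfl | rfl)
      · rfl
      · exact (hzc _).eq.symm
      · exact (hzc _).eq
      · rfl
    · haveI : IsCyclic (Subgroup.closure {z, w0}) := hcyc
      haveI : Fintype (Subgroup.closure {z, w0}) := Fintype.ofFinite _
      by_contra hne
      have h2 := IsCyclic.card_pow_eq_one_le (α := Subgroup.closure {z, w0}) (n := 2) two_pos
      have h3 : ({1, ⟨z, Subgroup.subset_closure (Or.inl rfl)⟩,
          ⟨w0, Subgroup.subset_closure (Or.inr rfl)⟩} : Finset (Subgroup.closure {z, w0})) ⊆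
          Finset.univ.filter fun a => a ^ 2 = 1 := by
        intro a ha
        rw [Finset.mem_filter]
        refine ⟨Finset.mem_univ _, Subtype.ext ?_⟩
        simp only [Finset.mem_insert, Finset.mem_singleton] at ha
        rcases ha with rfl | rfl | rfl <;> simp [pow_two, hz, hw0]
      have := (Finset.card_le_card h3).trans h2
      rw [Finset.card_insert_of_notMem, Finset.card_pair] at this
      · omega
      · exact fun h => hne (congrArg Subtype.val h).symm
      · simp only [Finset.mem_insert, Finset.mem_singleton, not_or]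
        exact ⟨fun h => hz1 (congrArg Subtype.val h).symm, fun h => hw01 (congrArg Subtype.val h).symm⟩
  have hqprime : q.Prime := Fact.out
  have hq3 : 3 ≤ q := by have := hqprime.two_le; omega
  refine Or.inr (Or.inl ?_)
  rcases (Cfsg.Agent.S0519.result 2 hG hn hB).2 with ⟨n, ⟨e⟩⟩ | ⟨n, hn8, ⟨e⟩⟩ | hQD
  · exfalso
    rcases n.eq_zero_or_pos with rfl | hn0
    · haveI := Finite.of_equiv _ e.toEquiv
      haveI : Infinite (ZMod (2 * 0)) := inferInstanceAs (Infinite ℤ)
      haveI : Infinite (QuaternionGroup 0) := Infinite.of_injective QuaternionGroup.a fun a b h => by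
        simpa using h
      exact not_finite (QuaternionGroup 0)
    haveI : NeZero n := ⟨hn0.ne'⟩
    have h1 := quat_invol (x := e z) (by rw [← map_mul, hz, map_one]) (by simpa using hz1)
    have h2 := quat_invol (x := e w0) (by rw [← map_mul, hw0, map_one]) (by simpa using hw01)
    exact hw0z (e.injective (h2.trans h1.symm))
  · -- dihedral
    haveI : NeZero n := ⟨by omega⟩
    obtain ⟨k, hk⟩ := IsPGroup.iff_card.1 hG
    rw [Nat.card_congr e.toEquiv, DihedralGroup.nat_card] at hk
    obtain ⟨k, rfl⟩ : ∃ j, k = j + 1 := ⟨k - 1, by rcases k with _ | k <;> omega⟩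
    have hnk : n = 2 ^ k := by rw [pow_succ'] at hk; omega
    have hk3 : 3 ≤ k := by
      by_contra h
      have := Nat.pow_le_pow_right two_pos (show k ≤ 2 by omega)
      omega
    have hn4 : n / 4 * 2 = n / 2 ∧ n / 2 * 2 = n := by
      have : 4 ∣ n := hnk ▸ pow_dvd_pow 2 (m := 2) (by omega)
      omega
    have hrot : ∀ i : ZMod n, i + i = 0 → i = 0 ∨ i = ((n / 2 : ℕ) : ZMod n) := by
      intro i hi
      rcases (ZMod.neg_eq_self_iff i).1 (neg_eq_of_add_eq_zero_left hi) with h | h
      · exact Or.inl h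
      · exact Or.inr (by rw [← ZMod.natCast_zmod_val i]; congr 1; omega)
    have hzr : e z = DihedralGroup.r ((n / 2 : ℕ) : ZMod n) := by
      have h1 : e z * e z = 1 := by rw [← map_mul, hz, map_one]
      have h2 : ∀ g, g * e z = e z * g := fun g => by
        obtain ⟨x, rfl⟩ := e.surjective g
        rw [← map_mul, ← map_mul, (hzc x).eq]
      cases hez : e z with
      | r i =>
        rw [hez, DihedralGroup.r_mul_r, DihedralGroup.one_def, DihedralGroup.r.injEq] at h1
        rcases hrot i h1 with h | h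
        · exact absurd (e.injective (by rw [hez, h, map_one]; exact DihedralGroup.one_def.symm)) hz1
        · rw [h]
      | sr i =>
        have h3 := h2 (DihedralGroup.r 1)
        rw [hez, DihedralGroup.r_mul_sr, DihedralGroup.sr_mul_r, DihedralGroup.sr.injEq] at h3
        have h4 : ((2 : ℕ) : ZMod n) = 0 := by push_cast; linear_combination -h3
        rw [ZMod.natCast_eq_zero_iff] at h4
        have := Nat.le_of_dvd two_pos h4
        omega
    let w : ZMod n → G := fun i => e.symm (DihedralGroup.sr i)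
    have hew : ∀ i, e (w i) = DihedralGroup.sr i := fun i => e.apply_symm_apply _
    obtain ⟨d, hd0, hV, hcard⟩ := count_case hconst hq2 hzc hz hz1 w
      (fun i j h => by simpa [w] using h)
      (fun i => e.injective (by rw [map_mul, hew, DihedralGroup.sr_mul_self, map_one]))
      (fun i h => by
        have h' := congrArg e h
        rw [hew, map_one, DihedralGroup.one_def] at h'
        cases h')
      (fun i h => by
        have h' := congrArg e h
        rw [hew, hzr] at h'
        cases h')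
      (fun i => ⟨e.symm (DihedralGroup.r (-((n / 4 : ℕ) : ZMod n))), e.injective (by
        rw [map_mul, map_mul, map_inv, map_mul, e.apply_symm_apply, hew, hzr, DihedralGroup.inv_r, neg_neg,
          DihedralGroup.r_mul_sr, DihedralGroup.sr_mul_r, DihedralGroup.sr_mul_r, DihedralGroup.sr.injEq]
        rw [← hn4.1]; push_cast; ring)⟩)
      (fun g hg1 hgz => by
        cases heg : e g with
        | sr i => exact ⟨i, by simp [w, ← heg]⟩
        | r i =>
          exfalso
          obtain ⟨j, hj⟩ := IsPGroup.iff_orderOf.mp hG g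
          have hj0 : j ≠ 0 := fun h => hg1 (orderOf_eq_one_iff.1 (by rw [hj, h, pow_zero]))
          have h2 : orderOf (g ^ 2 ^ (j - 1)) = 2 := by
            rw [orderOf_pow, hj, Nat.gcd_eq_right (pow_dvd_pow 2 (Nat.sub_le j 1)),
              Nat.pow_div (Nat.sub_le j 1) two_pos, show j - (j - 1) = 1 by omega, pow_one]
          have h3 : e (g ^ 2 ^ (j - 1)) = DihedralGroup.r (i * ((2 ^ (j - 1) : ℕ) : ZMod n)) := by
            rw [map_pow, heg, DihedralGroup.r_pow]
          have h4 : (g ^ 2 ^ (j - 1)) * (g ^ 2 ^ (j - 1)) = 1 := by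
            rw [← pow_two]
            have := pow_orderOf_eq_one (g ^ 2 ^ (j - 1))
            rwa [h2] at this
          have h5 := congrArg e h4
          rw [map_mul, h3, DihedralGroup.r_mul_r, map_one, DihedralGroup.one_def, DihedralGroup.r.injEq] at h5
          rcases hrot _ h5 with h | h
          · rw [h, ← DihedralGroup.one_def] at h3
            rw [e.map_eq_one_iff.1 h3, orderOf_one] at h2
            omega
          · rw [h, ← hzr] at h3
            exact hgz (e.injective h3 ▸ Subgroup.npow_mem_zpowers g _))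
      (fun i j l h => by
        have h' := congrArg e h
        rw [map_mul, hew, hew, hew, DihedralGroup.sr_mul_sr] at h'
        cases h')
    rw [ZMod.card, hnk] at hcard
    have hd1 : d = 1 := pow_add_one_two_pow (hqprime.odd_of_ne_two hq2) hq3 hd0 hcard.symm
    subst hd1
    rw [pow_one] at hV hcard
    refine ⟨by rw [hV, pow_two], k, by omega, Or.inl ⟨?_⟩⟩
    rw [← hnk]
    exact e
  · -- semidihedral
    obtain ⟨d, -⟩ := QD.exists_pres hQD
    have hzz : z = d.z := by
      rcases d.sq_eq_one_cases hz with h | h | ⟨i, -, h⟩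
      · exact absurd h hz1
      · exact h
      · exfalso
        have h1 := hzc d.x
        rw [h] at h1
        have h2 := (d.commute_form_pow i 1).1 (by rw [zpow_one]; exact h1.eq.symm)
        have := Int.le_of_dvd one_pos h2
        have := d.r_pos
        omega
    let w : Fin (4 * 2 ^ d.p) → G := fun i => d.x ^ (2 * ((i : ℕ) : ℤ)) * d.y
    haveI : Nonempty (Fin (4 * 2 ^ d.p)) := ⟨⟨0, by positivity⟩⟩
    have hr' : (4 * d.r : ℤ) = ((4 * 2 ^ d.p : ℕ) : ℤ) := by rw [QD.Pres.r]; push_cast; ring
    obtain ⟨e, he0, hV, hcard⟩ := count_case hconst hq2 hzc hz hz1 w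
      (fun i j h => by
        have h1 := (d.form_eq_iff _ _).1 h
        refine Fin.ext (Int.ofNat_inj.1 ?_)
        rw [show (8 : ℤ) * d.r = 2 * (4 * d.r) by ring, ← mul_sub, mul_dvd_mul_iff_left two_ne_zero,
          hr'] at h1
        have hi := i.2
        have hj := j.2
        refine sub_eq_zero.1 (Int.eq_zero_of_abs_lt_dvd h1 ?_)
        rw [abs_lt]
        constructor <;> omega)
      (fun i => (d.form_sq_eq_one_iff _).2 (dvd_mul_right 2 _))
      (fun i h => d.ne_form 0 (2 * ((i : ℕ) : ℤ)) (by rw [zpow_zero]; exact h.symm))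
      (fun i h => d.ne_form (4 * d.r) (2 * ((i : ℕ) : ℤ)) (h.trans hzz).symm)
      (fun i => by
        obtain ⟨j, hj⟩ := d.conj_form (2 * ((i : ℕ) : ℤ)) (2 * ((i : ℕ) : ℤ) + 4 * d.r)
          ⟨2 * d.r, by ring⟩
        refine ⟨d.x ^ j, hj.trans ?_⟩
        show _ = d.x ^ (2 * ((i : ℕ) : ℤ)) * d.y * z
        rw [hzz, mul_assoc, d.z_central d.y, ← mul_assoc, QD.Pres.z, d.pp])
      (fun g hg1 hgz => by
        rcases d.cases g with ⟨k, rfl⟩ | ⟨k, rfl⟩
        · exfalso
          obtain ⟨j, hj⟩ := IsPGroup.iff_orderOf.mp hG (d.x ^ k)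
          have hj0 : j ≠ 0 := fun h => hg1 (orderOf_eq_one_iff.1 (by rw [hj, h, pow_zero]))
          have h2 : orderOf ((d.x ^ k) ^ 2 ^ (j - 1)) = 2 := by
            rw [orderOf_pow, hj, Nat.gcd_eq_right (pow_dvd_pow 2 (Nat.sub_le j 1)),
              Nat.pow_div (Nat.sub_le j 1) two_pos, show j - (j - 1) = 1 by omega, pow_one]
          set g := (d.x ^ k) ^ 2 ^ (j - 1) with hgdef
          have h4 : g * g = 1 := by
            rw [← pow_two]
            have := pow_orderOf_eq_one g
            rwa [h2] at this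
          rcases d.sq_eq_one_cases h4 with h | h | ⟨i, -, h⟩
          · rw [h, orderOf_one] at h2; omega
          · exact hgz (hzz ▸ h ▸ Subgroup.npow_mem_zpowers _ _)
          · rw [hgdef, ← zpow_natCast, ← zpow_mul] at h
            exact d.ne_form _ _ h
        · rcases Int.even_or_odd' k with ⟨c, hc | hc⟩
          · have hpos : (0 : ℤ) < 4 * d.r := by linarith [d.r_pos]
            refine ⟨⟨(c % (4 * d.r)).toNat, ?_⟩, ?_⟩
            · rw [Int.toNat_lt (Int.emod_nonneg c hpos.ne'), ← hr']
              exact Int.emod_lt_of_pos c hpos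
            · show d.x ^ (2 * (((c % (4 * d.r)).toNat : ℕ) : ℤ)) * d.y = _
              rw [Int.toNat_of_nonneg (Int.emod_nonneg c hpos.ne'), hc, d.form_eq_iff]
              exact ⟨-(c / (4 * d.r)), by linear_combination 2 * (Int.emod_def c (4 * d.r))⟩
          · refine absurd ?_ hgz
            have h1 : d.x ^ k * d.y * (d.x ^ k * d.y) = d.z := by
              rw [d.form_sq, QD.Pres.z, d.zpow_eq_iff, hc]; exact ⟨c, by ring⟩
            rw [hzz, ← h1, ← pow_two]
            exact Subgroup.npow_mem_zpowers _ _)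
      (fun i j l h => d.ne_form _ _ ((d.qq _ _).symm.trans h))
    rw [Fintype.card_fin, show (4 : ℕ) * 2 ^ d.p = 2 ^ (d.p + 2) by ring] at hcard
    have hd1 : e = 1 := pow_add_one_two_pow (hqprime.odd_of_ne_two hq2) hq3 he0 hcard.symm
    subst hd1
    rw [pow_one] at hV hcard
    exact ⟨by rw [hV, pow_two], d.p + 2, by omega, Or.inr ⟨hQD, d.hcard⟩⟩

end Cfsg.Agent.HalfTransP
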